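import Groth.Agent.Open62.SmoothBaseChange
import Groth.Agent.Cons62.Generic
import Groth.Agent.LimDesc62.QuasiFinite

/-! The locus of points at which the fibre is smooth is locally constructible. -/

set_option autoImplicit false
universe u

open CategoryTheory Limits AlgebraicGeometry TopologicalSpace Topology TensorProduct

namespace Groth.Agent.Open62

instance lfp_pullback_snd {X S T : Scheme.{u}} (f : X ⟶ S) [LocallyOfFinitePresentation f] (t : T ⟶ S) :
    LocallyOfFinitePresentation (pullback.snd f t) :=
  (inferInstance : MorphismProperty.IsStableUnderBaseChange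
    (@LocallyOfFinitePresentation : MorphismProperty Scheme.{u})).of_isPullback
    (IsPullback.of_hasPullback f t) ‹_›

/-- The points at which the fibre is smooth, tested on all field valued points of the base. -/
def fibreSmooth {X S : Scheme.{u}} (f : X ⟶ S) [LocallyOfFinitePresentation f] : Set X :=
  {x | ∀ (K : Type u) [Field K] (t : Spec (CommRingCat.of K) ⟶ S) (p : ↥(pullback f t))
    [LocallyOfFinitePresentation (pullback.snd f t)],
      pullback.fst f t p = x → p ∈ (pullback.snd f t).smoothLocus}

theorem fibreSmooth_of_isPullback {X' X S' S : Scheme.{u}} {f : X ⟶ S} {g : S' ⟶ S} {f' : X' ⟶ S'}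
    {g' : X' ⟶ X} (h : IsPullback g' f' f g) [LocallyOfFinitePresentation f] [LocallyOfFinitePresentation f'] :
    fibreSmooth f' = g' ⁻¹' fibreSmooth f := by
  ext x'
  constructor
  · intro hx K _ t p _ hp
    obtain ⟨z, hz1, hz2⟩ := Scheme.Pullback.exists_preimage_pullback (f := pullback.fst f t) (g := g') p x' hp
    let W := pullback (pullback.fst f t) g'
    let ζ := W.fromSpecResidueField z
    let a : Spec (W.residueField z) ⟶ Spec (CommRingCat.of K) :=
      ζ ≫ pullback.fst (pullback.fst f t) g' ≫ pullback.snd f t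
    let t' : Spec (W.residueField z) ⟶ S' := ζ ≫ pullback.snd (pullback.fst f t) g' ≫ f'
    have hat : a ≫ t = t' ≫ g := by
      simp only [a, t', Category.assoc, ← pullback.condition, ← h.w]
      rw [pullback.condition_assoc]
    let m : pullback f' t' ⟶ pullback f t :=
      pullback.lift (pullback.fst f' t' ≫ g') (pullback.snd f' t' ≫ a) (by
        rw [Category.assoc, Category.assoc, h.w, hat, pullback.condition_assoc])
    have hm : IsPullback m (pullback.snd f' t') (pullback.snd f t) a := by
      refine IsPullback.of_right ?_ (pullback.lift_snd _ _ _) (IsPullback.of_hasPullback f t)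
      rw [pullback.lift_fst, hat]
      exact (IsPullback.of_hasPullback f' t').paste_horiz h
    let σ : Spec (W.residueField z) ⟶ pullback f' t' :=
      pullback.lift (ζ ≫ pullback.snd (pullback.fst f t) g') (𝟙 _) (by simp [t'])
    have hσ : σ ≫ m = ζ ≫ pullback.fst (pullback.fst f t) g' := by
      apply pullback.hom_ext
      · simp only [σ, m, Category.assoc, pullback.lift_fst, pullback.lift_fst_assoc, pullback.condition]
      · simp only [σ, m, a, Category.assoc, pullback.lift_snd, pullback.lift_snd_assoc, Category.id_comp]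
    let c : ↥(Spec (W.residueField z)) := IsLocalRing.closedPoint (W.residueField z)
    have h1 : pullback.fst f' t' (σ c) = x' := by
      rw [← Scheme.Hom.comp_apply, pullback.lift_fst, Scheme.Hom.comp_apply,
        Scheme.fromSpecResidueField_apply]
      exact hz2
    have h2 : m (σ c) = p := by
      rw [← Scheme.Hom.comp_apply, hσ, Scheme.Hom.comp_apply, Scheme.fromSpecResidueField_apply]
      exact hz1
    have : Flat a := inferInstance
    have h3 := hx (W.residueField z) t' (σ c) h1
    rw [smoothLocus_of_isPullback_flat hm] at h3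
    rw [← h2]
    exact h3
  · intro hx K _ t' p' _ hp'
    let m : pullback f' t' ⟶ pullback f (t' ≫ g) :=
      pullback.lift (pullback.fst f' t' ≫ g') (pullback.snd f' t') (by
        rw [Category.assoc, h.w, pullback.condition_assoc])
    have hm : IsPullback m (pullback.snd f' t') (pullback.snd f (t' ≫ g)) (𝟙 _) := by
      refine IsPullback.of_right ?_ (by rw [Category.comp_id]; exact pullback.lift_snd _ _ _)
        (IsPullback.of_hasPullback f (t' ≫ g))
      rw [pullback.lift_fst, Category.id_comp]
      exact (IsPullback.of_hasPullback f' t').paste_horiz h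
    refine preimage_smoothLocus_le hm (hx K (t' ≫ g) (m p') ?_)
    rw [← Scheme.Hom.comp_apply, pullback.lift_fst, Scheme.Hom.comp_apply, hp']

theorem fibreSmooth_of_flat {X S : Scheme.{u}} (f : X ⟶ S) [LocallyOfFinitePresentation f] [Flat f] :
    fibreSmooth f = (f.smoothLocus : Set X) := by
  refine Set.Subset.antisymm (fun x hx => mem_smoothLocus_of_flat_of_fibre x hx) ?_
  intro x hx K _ t p _ hp
  exact preimage_smoothLocus_le (IsPullback.of_hasPullback f t) (show pullback.fst f t p ∈ f.smoothLocus by
    rw [hp]; exact hx)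

theorem fibreSmooth_openImmersion_comp {U X S : Scheme.{u}} (j : U ⟶ X) (f : X ⟶ S) [IsOpenImmersion j]
    [LocallyOfFinitePresentation f] : fibreSmooth (j ≫ f) = j ⁻¹' fibreSmooth f := by
  have hmain : ∀ (K : Type u) [Field K] (t : Spec (CommRingCat.of K) ⟶ S),
      ∃ i : pullback (j ≫ f) t ⟶ pullback f t, IsOpenImmersion i ∧
        i ≫ pullback.snd f t = pullback.snd (j ≫ f) t ∧ IsPullback (pullback.fst (j ≫ f) t) i j (pullback.fst f t) := by
    intro K _ t
    let i : pullback (j ≫ f) t ⟶ pullback f t := pullback.lift (pullback.fst (j ≫ f) t ≫ j)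
      (pullback.snd (j ≫ f) t) ((Category.assoc _ _ _).trans pullback.condition)
    have hi : IsPullback (pullback.fst (j ≫ f) t) i j (pullback.fst f t) := by
      refine IsPullback.of_bot ?_ (pullback.lift_fst _ _ _).symm (IsPullback.of_hasPullback f t)
      rw [pullback.lift_snd]
      exact IsPullback.of_hasPullback (j ≫ f) t
    exact ⟨i, MorphismProperty.of_isPullback hi ‹_›, pullback.lift_snd _ _ _, hi⟩
  have hsm : ∀ {P P' T : Scheme.{u}} (i : P' ⟶ P) (a : P ⟶ T) (b : P' ⟶ T) [IsOpenImmersion i]
      [LocallyOfFinitePresentation a] [LocallyOfFinitePresentation b], i ≫ a = b → ∀ p' : P',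
      (p' ∈ b.smoothLocus ↔ i p' ∈ a.smoothLocus) := by
    intro P P' T i a b _ _ _ e p'
    subst e
    rw [← Scheme.Hom.preimage_smoothLocus_eq]
    rfl
  ext u
  constructor
  · intro hu K _ t p _ hp
    obtain ⟨i, hi, hi2, hpb⟩ := hmain K t
    obtain ⟨p', hp1, hp2⟩ := Scheme.exists_preimage_of_isPullback hpb u p hp.symm
    rw [← hp2]
    exact (hsm i _ _ hi2 p').mp (hu K t p' hp1)
  · intro hu K _ t p' _ hp'
    obtain ⟨i, hi, hi2, hpb⟩ := hmain K t
    refine (hsm i _ _ hi2 p').mpr (hu K t (i p') ?_)
    rw [← Scheme.Hom.comp_apply, ← hpb.w, Scheme.Hom.comp_apply, hp']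

theorem mem_fibreSmooth_iff {X S : Scheme.{u}} (f : X ⟶ S) [LocallyOfFinitePresentation f]
    [∀ s : S, LocallyOfFinitePresentation (f.fiberToSpecResidueField s)] (x : X) :
    x ∈ fibreSmooth f ↔ f.asFiber x ∈ (f.fiberToSpecResidueField (f x)).smoothLocus := by
  constructor
  · intro hx
    exact hx (S.residueField (f x)) (S.fromSpecResidueField (f x)) (f.asFiber x) (f.fiberι_asFiber x)
  · intro hx K _ t p _ hp
    have ht := Scheme.descResidueField_stalkClosedPointTo_fromSpecResidueField K S t
    set c := IsLocalRing.closedPoint K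
    have hc : t c = f x := by
      rw [← hp, ← Scheme.Hom.comp_apply, pullback.condition, Scheme.Hom.comp_apply]
      exact congrArg t (Subsingleton.elim _ _)
    suffices ∀ (s : S) (e : Spec (CommRingCat.of K) ⟶ Spec (S.residueField s)),
        e ≫ S.fromSpecResidueField s = t → s = f x → p ∈ (pullback.snd f t).smoothLocus from
      this _ _ ht hc
    rintro s e he rfl
    let m : pullback f t ⟶ f.fiber (f x) := pullback.lift (pullback.fst f t) (pullback.snd f t ≫ e)
      (by rw [Category.assoc, he, pullback.condition])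
    have hm : IsPullback m (pullback.snd f t) (f.fiberToSpecResidueField (f x)) e := by
      refine IsPullback.of_right ?_ (pullback.lift_snd _ _ _) (IsPullback.of_hasPullback f _)
      erw [pullback.lift_fst]
      rw [he]
      exact IsPullback.of_hasPullback f t
    refine preimage_smoothLocus_le hm (show m p ∈ (f.fiberToSpecResidueField (f x)).smoothLocus from ?_)
    have : m p = f.asFiber x := by
      apply (f.fiberι (f x)).isEmbedding.injective
      rw [f.fiberι_asFiber, ← Scheme.Hom.comp_apply]
      exact (congrArg (fun q : pullback f t ⟶ X => q p) (pullback.lift_fst _ _ _)).trans hp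
    rw [this]
    exact hx

attribute [local instance] Algebra.TensorProduct.rightAlgebra

set_option backward.isDefEq.respectTransparency.types false in
theorem isConstructible_fibreSmooth_noetherian {A B : Type u} [CommRing A] [CommRing B] [Algebra A B]
    [IsNoetherianRing A] [Algebra.FiniteType A B]
    [LocallyOfFinitePresentation (Spec.map (CommRingCat.ofHom (algebraMap A B)))] :
    IsConstructible (fibreSmooth (Spec.map (CommRingCat.ofHom (algebraMap A B)))) := by
  have : IsNoetherianRing B := Algebra.FiniteType.isNoetherianRing A B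
  set f := Spec.map (CommRingCat.ofHom (algebraMap A B))
  let E : Set (PrimeSpectrum B) := fibreSmooth f
  suffices ∀ C : Set (PrimeSpectrum A), IsClosed C →
      IsConstructible (E ∩ PrimeSpectrum.comap (algebraMap A B) ⁻¹' C) by
    have h0 := this Set.univ isClosed_univ
    rw [Set.preimage_univ, Set.inter_univ] at h0
    exact h0
  refine ConstrTop58.closed_induction (by simp) (fun C D _ _ hC hD => ?_) fun Y hY hYi ih => ?_
  · rw [Set.preimage_union, Set.inter_union_distrib_left]; exact hC.union hD
  obtain ⟨η, hη⟩ := QuasiSober.sober hYi hY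
  have hY' : Y = PrimeSpectrum.zeroLocus (η.asIdeal : Set A) := by
    rw [← hη.def, PrimeSpectrum.closure_singleton]
  let A' := A ⧸ η.asIdeal
  let B' := A' ⊗[A] B
  obtain ⟨h, h0, hfree⟩ := GenFree62.exists_freeAway (A := A') (B := B') (M := B')
  obtain ⟨h, rfl⟩ := Ideal.Quotient.mk_surjective h
  let h' := algebraMap A' B' (Ideal.Quotient.mk η.asIdeal h)
  let Bh := Localization.Away h'
  let pr : Spec (CommRingCat.of B') ⟶ Spec (CommRingCat.of B) :=
    Spec.map (CommRingCat.ofHom (Algebra.TensorProduct.includeRight : B →ₐ[A] B').toRingHom)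
  have hsq := (isPullback_SpecMap_of_isPushout _ _ _ _ (CommRingCat.isPushout_tensorProduct A A' B)).flip
  let f' := Spec.map (CommRingCat.ofHom (algebraMap A' B'))
  have hlfp' : LocallyOfFinitePresentation f' :=
    (inferInstance : MorphismProperty.IsStableUnderBaseChange
      (@LocallyOfFinitePresentation : MorphismProperty Scheme.{u})).of_isPullback hsq ‹_›
  have : IsNoetherianRing B' := Algebra.FiniteType.isNoetherianRing A' B'
  have : IsNoetherianRing Bh := IsLocalization.isNoetherianRing (Submonoid.powers h') Bh inferInstance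
  let j : Spec (CommRingCat.of Bh) ⟶ Spec (CommRingCat.of B') := Spec.map (CommRingCat.ofHom (algebraMap B' Bh))
  have hj : IsOpenImmersion j := IsOpenImmersion.of_isLocalization h'
  have hflat : Module.Flat A' Bh := by
    let Ah := Localization.Away (Ideal.Quotient.mk η.asIdeal h)
    have hf0 := hfree Ah (IsLocalization.Away.algebraMap_isUnit _)
    have : Module.Flat Ah (Ah ⊗[A'] B') := @Module.Flat.of_free _ _ _ _ _ hf0
    have : Module.Flat A' Ah := IsLocalization.flat _ (Submonoid.powers (Ideal.Quotient.mk η.asIdeal h))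
    have : Module.Flat A' (Ah ⊗[A'] B') := Module.Flat.trans A' Ah _
    have e : (B' ⊗[A'] Ah) ≃ₗ[A'] Ah ⊗[A'] B' := TensorProduct.comm A' B' Ah
    have : Module.Flat A' (B' ⊗[A'] Ah) := Module.Flat.of_linearEquiv e
    exact Module.Flat.of_linearEquiv (R := A') (M := B' ⊗[A'] Ah)
      ((IsLocalization.algEquiv (Submonoid.powers h') Bh (B' ⊗[A'] Ah)).restrictScalars A').toLinearEquiv
  have hflat' : Flat (j ≫ f') := by
    rw [← Spec.map_comp, ← CommRingCat.ofHom_comp, ← IsScalarTower.algebraMap_eq,
      HasRingHomProperty.Spec_iff (P := @Flat), CommRingCat.hom_ofHom]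
    exact RingHom.flat_algebraMap_iff.mpr hflat
  have hlt : Y \ PrimeSpectrum.basicOpen h ⊂ Y := by
    refine ⟨Set.sdiff_subset, fun hle => (hle hη.mem).2 ?_⟩
    exact fun hh => h0 (Ideal.Quotient.eq_zero_iff_mem.mpr hh)
  have h1 := ih _ (hY.sdiff (PrimeSpectrum.basicOpen h).2) hlt
  have h2 : IsConstructible ((j ≫ pr) '' (fibreSmooth (j ≫ f'))) := by
    rw [fibreSmooth_of_flat]
    exact PrimeSpectrum.isConstructible_comap_image
      (f := ((algebraMap B' Bh).comp (Algebra.TensorProduct.includeRight : B →ₐ[A] B').toRingHom))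
      (RingHom.FinitePresentation.of_finiteType.mp ((RingHom.FiniteType.comp
        (RingHom.finiteType_algebraMap.mpr (@Algebra.FiniteType.of_finitePresentation _ _ _ _ _ (IsLocalization.Away.finitePresentation h')))
        (RingHom.FiniteType.of_surjective _ (fun x => by
          induction x using TensorProduct.induction_on with
          | zero => exact ⟨0, map_zero _⟩
          | add x y hx hy => obtain ⟨a, ha⟩ := hx; obtain ⟨b, hb⟩ := hy; exact ⟨a + b, by rw [map_add, ha, hb]⟩
          | tmul a b =>
            obtain ⟨a, rfl⟩ := Ideal.Quotient.mk_surjective a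
            refine ⟨algebraMap A B a * b, ?_⟩
            show (1 : A') ⊗ₜ[A] (algebraMap A B a * b) = Ideal.Quotient.mk η.asIdeal a ⊗ₜ b
            rw [← Algebra.smul_def, TensorProduct.tmul_smul, TensorProduct.smul_tmul', Algebra.smul_def,
              mul_one]
            rfl)))))
      ((NoetherianSpace.isCompact _).isConstructible (j ≫ f').smoothLocus.2)
  have hjr : Set.range j = PrimeSpectrum.comap (algebraMap A' B') ⁻¹' (PrimeSpectrum.basicOpen (Ideal.Quotient.mk η.asIdeal h) : Set (PrimeSpectrum A')) := by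
    exact PrimeSpectrum.localization_away_comap_range Bh h'
  have hpr : Set.range pr = PrimeSpectrum.comap (algebraMap A B) ⁻¹' Y := by
    rw [Cons62.range_of_isPullback hsq, hY']
    show _ ⁻¹' Set.range (PrimeSpectrum.comap (Ideal.Quotient.mk η.asIdeal)) = _
    rw [range_comap_of_surjective _ _ Ideal.Quotient.mk_surjective, Ideal.mk_ker]
    rfl
  have hw : ∀ z, PrimeSpectrum.comap (algebraMap A B) (pr z) =
      PrimeSpectrum.comap (Ideal.Quotient.mk η.asIdeal) (PrimeSpectrum.comap (algebraMap A' B') z) := fun z => by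
    show f (pr z) = _
    rw [← Scheme.Hom.comp_apply, hsq.w, Scheme.Hom.comp_apply]
    rfl
  have key : E ∩ PrimeSpectrum.comap (algebraMap A B) ⁻¹' Y =
      ((j ≫ pr) '' (fibreSmooth (j ≫ f'))) ∪
        (E ∩ PrimeSpectrum.comap (algebraMap A B) ⁻¹' (Y \ PrimeSpectrum.basicOpen h)) := by
    rw [fibreSmooth_openImmersion_comp, fibreSmooth_of_isPullback hsq]
    ext x
    constructor
    · rintro ⟨hxE, hxY⟩
      by_cases hxh : PrimeSpectrum.comap (algebraMap A B) x ∈ PrimeSpectrum.basicOpen h
      · obtain ⟨z, rfl⟩ := hpr.ge hxY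
        obtain ⟨w, rfl⟩ : z ∈ Set.range j := by
          rw [hjr]
          have h4 := hxh
          rw [hw] at h4
          exact h4
        exact Or.inl ⟨w, hxE, Scheme.Hom.comp_apply _ _ _⟩
      · exact Or.inr ⟨hxE, hxY, hxh⟩
    · rintro (⟨w, hw1, rfl⟩ | ⟨hxE, hxY, -⟩)
      · rw [Scheme.Hom.comp_apply]
        exact ⟨hw1, hpr.le ⟨j w, rfl⟩⟩
      · exact ⟨hxE, hxY⟩
  rw [key]
  exact h2.union h1

theorem isLocallyConstructible_fibreSmooth {X S : Scheme.{u}} (f : X ⟶ S) [LocallyOfFinitePresentation f] :
    IsLocallyConstructible (fibreSmooth f) := by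
  have hcov : ∀ x : X, ∃ (V : S.affineOpens) (U : X.affineOpens), x ∈ U.1 ∧ U.1 ≤ f ⁻¹ᵁ V.1 := by
    intro x
    obtain ⟨_, ⟨V, hV, rfl⟩, hxV, -⟩ :=
      S.isBasis_affineOpens.exists_subset_of_mem_open (Set.mem_univ (f x)) isOpen_univ
    obtain ⟨_, ⟨U, hU, rfl⟩, hxU, hUV⟩ :=
      X.isBasis_affineOpens.exists_subset_of_mem_open (show x ∈ f ⁻¹ᵁ V from hxV) (f ⁻¹ᵁ V).2
    exact ⟨⟨V, hV⟩, ⟨U, hU⟩, hxU, hUV⟩
  choose V U hxU hUV using hcov
  refine .of_isOpenCover (U := fun x => (U x).1)
    (TopologicalSpace.IsOpenCover.mk (top_le_iff.mp fun x _ => Opens.mem_iSup.mpr ⟨x, hxU x⟩)) fun x => ?_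
  have hU : IsAffineOpen (U x).1 := (U x).2
  have hV : IsAffineOpen (V x).1 := (V x).2
  let ψ := f.appLE (V x).1 (U x).1 (hUV x)
  have hψ : Spec.map ψ ≫ hV.fromSpec = hU.fromSpec ≫ f := hV.SpecMap_appLE_fromSpec f hU (hUV x)
  have hlfp : LocallyOfFinitePresentation (Spec.map ψ) := by
    have h1 : LocallyOfFinitePresentation (hU.fromSpec ≫ f) := inferInstance
    rw [← hψ] at h1
    exact LimDesc62.lfp_of_comp _ hV.fromSpec
  obtain ⟨A₀, B₀, _, _, φ₀, α, β, hN, hφ₀, hsq, -⟩ := Cons62.exists_isPullback_model ψ.hom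
    ((HasRingHomProperty.Spec_iff (P := @LocallyOfFinitePresentation)).mp hlfp) []
  algebraize [φ₀]
  have hl0 : LocallyOfFinitePresentation (Spec.map (CommRingCat.ofHom (algebraMap A₀ B₀))) :=
    (HasRingHomProperty.Spec_iff (P := @LocallyOfFinitePresentation)).mpr hφ₀
  have h0 := isConstructible_fibreSmooth_noetherian (A := A₀) (B := B₀)
  have hlfp' : LocallyOfFinitePresentation (Spec.map (CommRingCat.ofHom ψ.hom)) := hlfp
  have h1 := (Spec.map (CommRingCat.ofHom β)).isConstructible_preimage h0
  rw [show fibreSmooth (Spec.map (CommRingCat.ofHom (algebraMap A₀ B₀))) =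
    fibreSmooth (Spec.map (CommRingCat.ofHom φ₀)) from rfl] at h1
  rw [← fibreSmooth_of_isPullback hsq] at h1
  have h2 : fibreSmooth (Spec.map (CommRingCat.ofHom ψ.hom)) = hU.fromSpec ⁻¹' fibreSmooth f := by
    rw [← fibreSmooth_openImmersion_comp]
    have hsq2 := (LimDesc62.isPullback_lift_mono hV.fromSpec (hU.fromSpec ≫ f) (Spec.map ψ) hψ).flip
    exact (fibreSmooth_of_isPullback hsq2).trans rfl
  rw [h2] at h1
  have h4 := h1.isLocallyConstructible.preimage_of_isOpenEmbedding hU.isoSpec.hom.isOpenEmbedding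
  rw [← Set.preimage_comp] at h4
  show IsLocallyConstructible ((U x).1.ι ⁻¹' _)
  convert h4 using 1
  refine congrArg (fun m : ((U x).1 : Scheme.{u}) → X => m ⁻¹' _) (funext fun z => ?_)
  rw [Function.comp_apply, ← Scheme.Hom.comp_apply, IsAffineOpen.isoSpec_hom_fromSpec]

end Groth.Agent.Open62
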