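import Groth.Agent.FlatMor68.FlatSections
import Groth.Agent.Props58.LocFree.FP
import Groth.Agent.FlatCrit65.FlatLocus.Module
import Groth.Prelude.Def_CohB1

/-! The flat locus of a finitely presented quasi-coherent module is open. -/

set_option autoImplicit false
set_option backward.isDefEq.respectTransparency.types false
set_option linter.style.haveILetI false

universe u

open CategoryTheory Limits AlgebraicGeometry TopologicalSpace Opposite

namespace Groth.Agent.Open62

open QC70 FlatMor68.FlatSections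

variable {X S : Scheme.{u}} (f : X ⟶ S) {M : X.Modules} {U : X.Opens} {V : S.Opens}

/-- Flatness at a point read on sections over affine opens. -/
theorem isFlatOverAt_iff_localized (e : U ≤ f ⁻¹ᵁ V) (hU : IsAffineOpen U) (hV : IsAffineOpen V)
    (hM : IsLocAt M U) {x : X} (hx : x ∈ U) :
    letI : Algebra Γ(S, V) Γ(X, U) := (f.appLE V U e).hom.toAlgebra
    letI : Module Γ(S, V) Γ(M, U) := Module.compHom _ (f.appLE V U e).hom
    haveI : IsScalarTower Γ(S, V) Γ(X, U) Γ(M, U) := IsScalarTower.of_algebraMap_smul fun r s => rfl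
    FlatMod.IsFlatOverAt f M x ↔
      Module.Flat Γ(S, V) (LocalizedModule (hU.primeIdealOf ⟨x, hx⟩).asIdeal.primeCompl Γ(M, U)) := by
  letI : Algebra Γ(S, V) Γ(X, U) := (f.appLE V U e).hom.toAlgebra
  letI : Module Γ(S, V) Γ(M, U) := Module.compHom _ (f.appLE V U e).hom
  haveI : IsScalarTower Γ(S, V) Γ(X, U) Γ(M, U) := IsScalarTower.of_algebraMap_smul fun r s => rfl
  letI := stalkModule M hx
  haveI := isLocalizedModule_germ hM hU hx
  letI : Module Γ(S, V) (M.presheaf.stalk x) :=
    Module.compHom _ ((X.presheaf.germ U x hx).hom.comp (f.appLE V U e).hom)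
  haveI : IsScalarTower Γ(S, V) Γ(X, U) (M.presheaf.stalk x) :=
    IsScalarTower.of_algebraMap_smul fun r s => rfl
  let eq := (IsLocalizedModule.iso (hU.primeIdealOf ⟨x, hx⟩).asIdeal.primeCompl
    (germLinear M hx)).restrictScalars Γ(S, V)
  letI : Algebra Γ(S, V) (S.presheaf.stalk (f.base x)) :=
    (S.presheaf.germ V (f.base x) (e hx)).hom.toAlgebra
  haveI : IsLocalization.AtPrime (S.presheaf.stalk (f.base x))
      (hV.primeIdealOf ⟨f.base x, e hx⟩).asIdeal := hV.isLocalization_stalk ⟨f.base x, e hx⟩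
  letI := FlatMod.moduleStalkOver f M x
  haveI : IsScalarTower Γ(S, V) (S.presheaf.stalk (f.base x)) (M.presheaf.stalk x) :=
    IsScalarTower.of_algebraMap_smul fun r s => by
      change (f.stalkMap x).hom (S.presheaf.germ V (f.base x) (e hx) r) • s =
        (X.presheaf.germ U x hx ((f.appLE V U e).hom r)) • s
      rw [stalkMap_germ_appLE f e hx r]
  refine (Module.flat_iff_of_isLocalization (S.presheaf.stalk (f.base x))
    (hV.primeIdealOf ⟨f.base x, e hx⟩).asIdeal.primeCompl (M.presheaf.stalk x)).trans ⟨fun h => ?_, fun h => ?_⟩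
  · exact Module.Flat.of_linearEquiv eq
  · exact Module.Flat.of_linearEquiv eq.symm

/-- The flat locus is open. -/
theorem isOpen_flatLocus [LocallyOfFinitePresentation f] (F : X.Modules) (hQ : Coh.IsQCoh F)
    (hF : CohB1.IsFP F) : IsOpen {x : X | FlatMod.IsFlatOverAt f F x} := by
  haveI : F.IsQuasicoherent := hQ
  haveI := hF
  rw [isOpen_iff_forall_mem_open]
  intro x hx
  obtain ⟨_, ⟨V, hV, rfl⟩, hxV, -⟩ :=
    S.isBasis_affineOpens.exists_subset_of_mem_open (Set.mem_univ (f x)) isOpen_univ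
  obtain ⟨_, ⟨U, hU, rfl⟩, hxU, e⟩ :=
    X.isBasis_affineOpens.exists_subset_of_mem_open hxV (V.2.preimage f.continuous)
  have hfp := f.finitePresentation_appLE hV hU e
  letI : Algebra Γ(S, V) Γ(X, U) := (f.appLE V U e).hom.toAlgebra
  letI : Module Γ(S, V) Γ(F, U) := Module.compHom _ (f.appLE V U e).hom
  haveI : IsScalarTower Γ(S, V) Γ(X, U) Γ(F, U) := IsScalarTower.of_algebraMap_smul fun r s => rfl
  haveI : Algebra.FinitePresentation Γ(S, V) Γ(X, U) := hfp
  haveI := Props58.LocFree.finitePresentation_sections F hU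
  have key := fun (y : X) (hy : y ∈ U) =>
    isFlatOverAt_iff_localized f e hU hV (isLocAt_of_isQuasicoherent F hU) hy
  refine ⟨Subtype.val '' ((fun y : U => hU.primeIdealOf y) ⁻¹' {q : PrimeSpectrum Γ(X, U) |
    Module.Flat Γ(S, V) (LocalizedModule q.asIdeal.primeCompl Γ(F, U))}), ?_, ?_, ?_⟩
  · rintro _ ⟨⟨y, hy⟩, hq, rfl⟩
    exact (key y hy).mpr hq
  · refine U.2.isOpenMap_subtype_val _ ((FlatCrit65.isOpen_flat_locus_module).preimage ?_)
    exact hU.isoSpec.hom.continuous
  · exact ⟨⟨x, hxU⟩, (key x hxU).mp hx, rfl⟩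

end Groth.Agent.Open62
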