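import Groth.Agent.Open62.FiniteTest
import Groth.Agent.E4O.UnivOpenMap
import Groth.Agent.E4O.ChevalleyOpen
import Groth.Agent.LimTop61.PseudoFinite

/-!
Universal openness of a morphism locally of finite type to a Noetherian scheme may be tested on
finite base changes (EGA IV 14.4.3).
-/

universe u

open CategoryTheory AlgebraicGeometry Limits
open scoped TensorProduct
open Groth.Agent.E4O

namespace Groth.Agent.Open62.FiniteTest

/-- A quasi-finite separated morphism to a Noetherian scheme extends to a finite morphism. -/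
theorem exists_finite_extension {V Y : Scheme.{u}} [IsNoetherian Y] (j : V ⟶ Y)
    [LocallyOfFiniteType j] [LocallyQuasiFinite j] [IsSeparated j] [QuasiCompact j] :
    ∃ (Y₁ : Scheme.{u}) (g : Y₁ ⟶ Y) (i : V ⟶ Y₁), IsFinite g ∧ IsOpenImmersion i ∧ i ≫ g = j := by
  obtain ⟨Y', f', u, hf', hu, hfu⟩ := LimTop61.pseudoFinite_of_toNormalization j inferInstance
  have : QuasiCompact f' := by
    have : QuasiCompact (f' ≫ u) := by rw [hfu]; infer_instance
    exact QuasiCompact.of_comp f' u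
  exact ⟨f'.image, f'.imageι ≫ u, f'.toImage, inferInstance, inferInstance,
    by rw [Scheme.Hom.toImage_imageι_assoc, hfu]⟩

/-- If all finite base changes of `f` are open then `f` is universally open. -/
theorem universallyOpen_of_forall_finite {X Y : Scheme.{u}} [IsNoetherian Y] (f : X ⟶ Y)
    [LocallyOfFiniteType f]
    (h : ∀ (Y₁ : Scheme.{u}) (g : Y₁ ⟶ Y) [IsFinite g], IsOpenMap (pullback.snd f g).base) :
    UniversallyOpen f := by
  have : LocallyOfFinitePresentation f := locallyOfFinitePresentation_of_isLocallyNoetherian f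
  refine universallyOpen_of_forall_isUnivOpenAt f fun x₀ => ?_
  obtain ⟨x, hxx, hfx, hmax, -, -⟩ := exists_isFibreMax_specializes f x₀
  refine isUnivOpenAt_of_specializes_fibre hxx hfx (isUnivOpenAt_of_forall_finiteType
    fun W _ w _ z hz => ?_)
  rw [isOpenAt_iff_forall_exists_specializes]
  intro w' hw'
  obtain ⟨C, ⟨q, rfl⟩, hC⟩ := exists_chart f x
  have := hC inferInstance
  have hwz : w (pullback.snd f w z) = C.ptY (PrimeSpectrum.comap (algebraMap C.A C.B) q) := by
    rw [← C.apply q, ← hz]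
    simp only [← Scheme.Hom.comp_apply, pullback.condition]
  obtain ⟨_, ⟨Wa, hWa, rfl⟩, hzW, hWsub⟩ :=
    W.isBasis_affineOpens.exists_subset_of_mem_open
      (show pullback.snd f w z ∈ w ⁻¹' Set.range C.j from ⟨_, hwz.symm⟩)
      (C.j.isOpenEmbedding.isOpen_range.preimage w.continuous)
  replace hWa : IsAffineOpen Wa := hWa
  have := hWa.isOpenImmersion_fromSpec
  let v : Spec Γ(W, Wa) ⟶ Spec (CommRingCat.of C.A) :=
    IsOpenImmersion.lift C.j (hWa.fromSpec ≫ w) (by
      rintro _ ⟨t, rfl⟩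
      exact hWsub (hWa.range_fromSpec.le ⟨t, rfl⟩))
  have hv : v ≫ C.j = hWa.fromSpec ≫ w := IsOpenImmersion.lift_fac _ _ _
  obtain ⟨φ, hφ⟩ := Spec.map_surjective v
  let _ : Algebra C.A Γ(W, Wa) := φ.hom.toAlgebra
  have hftW : Algebra.FiniteType C.A Γ(W, Wa) := by
    have hft : LocallyOfFiniteType v := by
      have : LocallyOfFiniteType (v ≫ C.j) := by rw [hv]; infer_instance
      exact locallyOfFiniteType_of_comp v C.j
    rw [← hφ, HasRingHomProperty.Spec_iff (P := @LocallyOfFiniteType)] at hft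
    exact hft
  have hj : hWa.fromSpec ≫ w = Spec.map (CommRingCat.ofHom (algebraMap C.A Γ(W, Wa))) ≫ C.j := by
    rw [← hv, ← hφ]
    rfl
  obtain ⟨e, he, he1, he2, her⟩ := exists_tensor_chart f w C.e hWa.fromSpec C.j C.comm hj
  obtain ⟨zc, rfl⟩ : z ∈ Set.range e := by
    rw [her]
    exact ⟨⟨q, hz.symm⟩, by rw [Set.mem_preimage, hWa.range_fromSpec]; exact hzW⟩
  have hsnd : ∀ t, pullback.snd f w (e t) = hWa.fromSpec (PrimeSpectrum.comap
      (Algebra.TensorProduct.includeRight : Γ(W, Wa) →ₐ[C.A] C.B ⊗[C.A] Γ(W, Wa)).toRingHom t) :=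
    fun t => ((Scheme.Hom.comp_apply e (pullback.snd f w) t).symm.trans
      (congrArg (fun k : _ ⟶ W => k t) he2))
  have hfst : pullback.fst f w (e zc) =
      C.pt (PrimeSpectrum.comap Algebra.TensorProduct.includeLeftRingHom zc) :=
    (Scheme.Hom.comp_apply e (pullback.fst f w) zc).symm.trans
      (congrArg (fun k : _ ⟶ X => k zc) he1)
  rw [hfst] at hz
  have hzq := congrArg PrimeSpectrum.asIdeal (C.isOpenEmbedding_pt.injective hz)
  rw [hsnd] at hw'
  obtain ⟨wc, rfl⟩ := hw'.mem_open hWa.fromSpec.isOpenEmbedding.isOpen_range ⟨_, rfl⟩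
  have hmax' : ∀ q' : Ideal C.B, q'.IsPrime → q' ≤ q.asIdeal →
      q'.under C.A = q.asIdeal.under C.A → q' = q.asIdeal := fun q' hq' hle hu => by
    have := hmax (C.pt ⟨q', hq'⟩) ((C.specializes_iff _ _).2 hle)
      (by rw [C.apply, C.apply]; exact congrArg C.ptY (PrimeSpectrum.ext hu))
    exact congrArg PrimeSpectrum.asIdeal (C.isOpenEmbedding_pt.injective this)
  -- finite base changes of the chart are open
  have hfin : ∀ (A₁ : Type u) [CommRing A₁] [Algebra C.A A₁] [Module.Finite C.A A₁],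
      IsOpenMap (PrimeSpectrum.comap
        (Algebra.TensorProduct.includeRight : A₁ →ₐ[C.A] C.B ⊗[C.A] A₁).toRingHom) := by
    intro A₁ _ _ _
    have : IsFinite (Spec.map (CommRingCat.ofHom (algebraMap C.A A₁))) :=
      (IsFinite.SpecMap_iff _).2 (RingHom.finite_algebraMap.2 ‹_›)
    have : IsNoetherianRing A₁ := IsNoetherianRing.of_finite C.A A₁
    obtain ⟨Y₁, g, i, hg, hi, hig⟩ :=
      exists_finite_extension (Spec.map (CommRingCat.ofHom (algebraMap C.A A₁)) ≫ C.j)
    obtain ⟨e₁, he₁, -, he₁2, -⟩ := exists_tensor_chart f g C.e i C.j C.comm hig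
    refine i.isOpenEmbedding.isOpenMap_iff.2 ?_
    have := (h Y₁ g).comp e₁.isOpenEmbedding.isOpenMap
    rw [show ⇑(pullback.snd f g) ∘ ⇑e₁ = ⇑i ∘ (PrimeSpectrum.comap
      (Algebra.TensorProduct.includeRight : A₁ →ₐ[C.A] C.B ⊗[C.A] A₁).toRingHom) from funext fun t =>
        (Scheme.Hom.comp_apply e₁ (pullback.snd f g) t).symm.trans
          (congrArg (fun k : _ ⟶ Y₁ => k t) he₁2)] at this
    exact this
  have : zc.asIdeal.IsPrime := zc.isPrime
  have : wc.asIdeal.IsPrime := wc.isPrime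
  obtain ⟨z', hz', hz'z, hz'w⟩ := exists_le_tensor_of_finite (A' := Γ(W, Wa)) q.asIdeal hmax' hfin
    zc.asIdeal hzq wc.asIdeal ((PrimeSpectrum.le_iff_specializes _ _).2
      (hWa.fromSpec.isOpenEmbedding.isInducing.specializes_iff.1 hw'))
  refine ⟨e ⟨z', hz'⟩, ?_, ((PrimeSpectrum.le_iff_specializes ⟨z', hz'⟩ zc).1 hz'z).map e.continuous⟩
  exact (hsnd ⟨z', hz'⟩).trans (congrArg hWa.fromSpec (PrimeSpectrum.ext hz'w))

end Groth.Agent.Open62.FiniteTest
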