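import Groth.Agent.E4O.ChevalleyGen
import Groth.Agent.E4O.OpenDim
import Mathlib.RingTheory.Localization.Integral
import Mathlib.LinearAlgebra.TensorProduct.Finiteness
import Mathlib.FieldTheory.IsAlgClosed.AlgebraicClosure

/-!
Universal openness over a Noetherian ring may be tested on finite base changes (EGA IV 14.4.3).
-/

universe u

open scoped TensorProduct

namespace Groth.Agent.Open62.FiniteTest

/-- An integrally closed local domain is geometrically unibranch. -/
theorem isGeomUnibranch_of_isIntegrallyClosed (R : Type u) [CommRing R] [IsDomain R] [IsLocalRing R]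
    [IsIntegrallyClosed R] : CAlg2.IsGeomUnibranch R := by
  let e : CAlg2.red R ≃+* R :=
    (Ideal.quotEquivOfEq (nilradical_eq_zero R)).trans (RingEquiv.quotientBot R)
  have hd : IsDomain (CAlg2.red R) := e.toMulEquiv.isDomain
  have : IsIntegrallyClosed (CAlg2.red R) := IsIntegrallyClosed.of_equiv e.symm
  have hs : Function.Surjective (algebraMap (CAlg2.red R) (CAlg2.normRed R)) := fun x => by
    obtain ⟨r, hr⟩ := IsIntegrallyClosed.algebraMap_eq_of_integral
      (K := FractionRing (CAlg2.red R)) x.2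
    exact ⟨r, Subtype.ext hr⟩
  have : IsLocalRing (CAlg2.red R) := e.symm.isLocalRing
  have hl : IsLocalRing (CAlg2.normRed R) := IsLocalRing.of_surjective' _ hs
  refine ⟨⟨hd, hl⟩, fun m' _ x => ⟨0, ?_⟩⟩
  obtain ⟨y, rfl⟩ := Ideal.Quotient.mk_surjective x
  obtain ⟨r, rfl⟩ := hs y
  obtain ⟨r, rfl⟩ := Ideal.Quotient.mk_surjective r
  exact ⟨r, by simp⟩

/-- An open map of prime spectra lifts generalizations. -/
theorem exists_le_comap_eq_of_isOpenMap {R S : Type u} [CommRing R] [CommRing S] (φ : R →+* S)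
    (h : IsOpenMap (PrimeSpectrum.comap φ)) (Q : Ideal S) [Q.IsPrime] (p : Ideal R) [p.IsPrime]
    (hp : p ≤ Q.comap φ) : ∃ Q' : Ideal S, Q'.IsPrime ∧ Q' ≤ Q ∧ Q'.comap φ = p := by
  have hcl : (⟨Q, ‹_›⟩ : PrimeSpectrum S) ∈
      closure (PrimeSpectrum.comap φ ⁻¹' {(⟨p, ‹_›⟩ : PrimeSpectrum R)}) := by
    rw [← h.preimage_closure_eq_closure_preimage (PrimeSpectrum.continuous_comap φ)]
    exact specializes_iff_mem_closure.1 ((PrimeSpectrum.le_iff_specializes
      ⟨p, ‹_›⟩ (PrimeSpectrum.comap φ ⟨Q, ‹_›⟩)).1 hp)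
  obtain ⟨Q', hQ', hsp⟩ := E4O.exists_specializes_of_mem_closure_preimage
    (AlgebraicGeometry.Spec.map (CommRingCat.ofHom φ)) hcl
  exact ⟨Q'.asIdeal, Q'.isPrime, (PrimeSpectrum.le_iff_specializes Q' ⟨Q, ‹_›⟩).2 hsp,
    congrArg PrimeSpectrum.asIdeal hQ'⟩

/-- Incomparability for integral homomorphisms. -/
theorem eq_of_le_of_comap_eq {S T : Type u} [CommRing S] [CommRing T] (f : S →+* T)
    (hf : f.IsIntegral) {I J : Ideal T} [I.IsPrime] (hle : I ≤ J) (h : I.comap f = J.comap f) :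
    I = J := by
  let _ : Algebra S T := f.toAlgebra
  by_contra hne
  obtain ⟨x, hx, hx'⟩ := SetLike.exists_of_lt (lt_of_le_of_ne hle hne)
  exact (Ideal.comap_lt_comap_of_integral_mem_sdiff (R := S) hle ⟨hx, hx'⟩ (hf x)).ne h

/-- Tensoring an integral algebra gives an integral extension of anything containing the other
factor. -/
theorem isIntegral_tensor {A C B S : Type u} [CommRing A] [CommRing C] [CommRing B] [CommRing S]
    [Algebra A C] [Algebra A B] [Algebra A S] [Algebra.IsIntegral A C] (f : S →ₐ[A] C ⊗[A] B)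
    (hf : ∀ b : B, (1 : C) ⊗ₜ[A] b ∈ Set.range f) : f.toRingHom.IsIntegral := by
  intro x
  induction x using TensorProduct.induction_on with
  | zero => exact f.toRingHom.isIntegralElem_zero
  | tmul c b =>
    obtain ⟨s, hs⟩ := hf b
    have h1 : f.toRingHom.IsIntegralElem (c ⊗ₜ[A] (1 : B)) := by
      obtain ⟨p, hp, hev⟩ := Algebra.IsIntegral.isIntegral (R := A) c
      refine ⟨p.map (algebraMap A S), hp.map _, ?_⟩
      rw [Polynomial.eval₂_map, f.toRingHom_eq_coe, f.comp_algebraMap]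
      have := congrArg (Algebra.TensorProduct.includeLeft : C →ₐ[A] C ⊗[A] B) hev
      rw [map_zero, ← AlgHom.coe_toRingHom, Polynomial.hom_eval₂] at this
      rw [AlgHom.comp_algebraMap] at this
      exact this
    have := h1.mul _ (f.toRingHom.isIntegralElem_map (x := s))
    rw [show f.toRingHom s = 1 ⊗ₜ[A] b from hs, Algebra.TensorProduct.tmul_mul_tmul, mul_one,
      one_mul] at this
    exact this
  | add x y hx hy => exact hx.add _ hy

/-- Residue transcendence degrees are invariant under integral extensions of source and target. -/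
theorem trdeg_quotient_eq {R R' S S' : Type u} [CommRing R] [CommRing R'] [CommRing S] [CommRing S']
    [Algebra R R'] [Algebra R S] [Algebra R' S'] [Algebra S S']
    (hcomm : ∀ r, algebraMap S S' (algebraMap R S r) = algebraMap R' S' (algebraMap R R' r))
    [Algebra.IsIntegral R R'] [Algebra.IsIntegral S S'] (Q' : Ideal S') [Q'.IsPrime] :
    Algebra.trdeg (R ⧸ (Q'.under S).under R) (S ⧸ Q'.under S) =
      Algebra.trdeg (R' ⧸ Q'.under R') (S' ⧸ Q') := by
  let P := (Q'.under S).under R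
  let P' := Q'.under R'
  let Q := Q'.under S
  have hP : P'.comap (algebraMap R R') = P := by
    ext r
    simp only [P, P', Ideal.mem_comap, Ideal.under_def, hcomm]
  let ιR : R ⧸ P →+* R' ⧸ P' := Ideal.quotientMap P' (algebraMap R R') hP.ge
  have hιR : Function.Injective ιR := Ideal.quotientMap_injective' hP.le
  let ιS : S ⧸ Q →+* S' ⧸ Q' := Ideal.quotientMap Q' (algebraMap S S') le_rfl
  have hιS : Function.Injective ιS := Ideal.quotientMap_injective' le_rfl
  let _ : Algebra (R ⧸ P) (R' ⧸ P') := ιR.toAlgebra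
  let _ : Algebra (S ⧸ Q) (S' ⧸ Q') := ιS.toAlgebra
  let _ : Algebra (R ⧸ P) (S' ⧸ Q') :=
    ((algebraMap (R' ⧸ P') (S' ⧸ Q')).comp ιR).toAlgebra
  have h1 : IsScalarTower (R ⧸ P) (R' ⧸ P') (S' ⧸ Q') := IsScalarTower.of_algebraMap_eq fun _ => rfl
  have h2 : IsScalarTower (R ⧸ P) (S ⧸ Q) (S' ⧸ Q') := IsScalarTower.of_algebraMap_eq fun x => by
    obtain ⟨r, rfl⟩ := Ideal.Quotient.mk_surjective x
    exact congrArg (Ideal.Quotient.mk Q') (hcomm r).symm
  have : FaithfulSMul (R ⧸ P) (R' ⧸ P') := (faithfulSMul_iff_algebraMap_injective _ _).2 hιR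
  have : FaithfulSMul (S ⧸ Q) (S' ⧸ Q') := (faithfulSMul_iff_algebraMap_injective _ _).2 hιS
  have : FaithfulSMul (R ⧸ P) (S ⧸ Q) :=
    (faithfulSMul_iff_algebraMap_injective _ _).2 Ideal.algebraMap_quotient_injective
  have : FaithfulSMul (R' ⧸ P') (S' ⧸ Q') :=
    (faithfulSMul_iff_algebraMap_injective _ _).2 Ideal.algebraMap_quotient_injective
  have : Algebra.IsIntegral (R ⧸ P) (R' ⧸ P') := ⟨fun x => by
    obtain ⟨x, rfl⟩ := Ideal.Quotient.mk_surjective x
    exact (Algebra.IsIntegral.isIntegral (R := R) x).map_of_comp_eq (Ideal.Quotient.mk P)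
      (Ideal.Quotient.mk P') rfl⟩
  have : Algebra.IsIntegral (S ⧸ Q) (S' ⧸ Q') := ⟨fun x => by
    obtain ⟨x, rfl⟩ := Ideal.Quotient.mk_surjective x
    exact (Algebra.IsIntegral.isIntegral (R := S) x).map_of_comp_eq (Ideal.Quotient.mk Q)
      (Ideal.Quotient.mk Q') rfl⟩
  have e1 := trdeg_add_eq (R ⧸ P) (S ⧸ Q) (A := S' ⧸ Q')
  have e2 := trdeg_add_eq (R ⧸ P) (R' ⧸ P') (A := S' ⧸ Q')
  rw [trdeg_eq_zero (R := S ⧸ Q) (A := S' ⧸ Q'), add_zero] at e1
  rw [trdeg_eq_zero (R := R ⧸ P) (A := R' ⧸ P'), zero_add] at e2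
  exact e1.trans e2.symm

theorem trdeg_quotient_anti {R S : Type u} [CommRing R] [CommRing S] [Algebra R S] (p : Ideal R)
    {c q : Ideal S} [c.LiesOver p] [q.LiesOver p] (h : c ≤ q) :
    Algebra.trdeg (R ⧸ p) (S ⧸ q) ≤ Algebra.trdeg (R ⧸ p) (S ⧸ c) :=
  trdeg_le_of_surjective
    ({ Ideal.Quotient.factor h with
       commutes' := fun r => by obtain ⟨r, rfl⟩ := Ideal.Quotient.mk_surjective r; rfl } :
      S ⧸ c →ₐ[R ⧸ p] S ⧸ q)
    (Ideal.Quotient.factor_surjective h)

/-- Finitely many elements of a tensor product come from a finitely generated subalgebra. -/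
theorem exists_fg_forall_mem_range {A C B ι : Type u} [CommRing A] [CommRing C] [CommRing B]
    [Algebra A C] [Algebra A B] [Finite ι] (t : ι → C ⊗[A] B) :
    ∃ A₁ : Subalgebra A C, A₁.FG ∧
      ∀ i, t i ∈ Set.range (Algebra.TensorProduct.map A₁.val (AlgHom.id A B)) := by
  classical
  have := Fintype.ofFinite ι
  choose S hS using fun i => TensorProduct.exists_finset (t i)
  let G : Finset C := Finset.univ.biUnion fun i => (S i).image Prod.fst
  let A₁ := Algebra.adjoin A (G : Set C)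
  refine ⟨A₁, ⟨G, rfl⟩, fun i => ?_⟩
  refine ⟨∑ x : ↥(S i), (⟨x.1.1, Algebra.subset_adjoin (Finset.mem_coe.2
    (Finset.mem_biUnion.2 ⟨i, Finset.mem_univ i, Finset.mem_image_of_mem _ x.2⟩))⟩ : A₁) ⊗ₜ[A]
      x.1.2, ?_⟩
  rw [map_sum]
  conv_rhs => rw [hS i, ← Finset.sum_coe_sort]
  rfl

set_option maxHeartbeats 800000 in
/-- A component of the generic fibre through `qb` of dimension at least that of the fibre at `qb`. -/
theorem exists_component {A B A₀ Ab K : Type u} [CommRing A] [IsNoetherianRing A] [CommRing B]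
    [Algebra A B] [Algebra.FiniteType A B] [CommRing A₀] [Algebra A A₀]
    (hsurj : Function.Surjective (algebraMap A A₀)) [IsDomain A₀]
    [CommRing Ab] [IsDomain Ab] [Algebra A Ab] [Algebra.IsIntegral A Ab] [Field K] [Algebra A₀ K]
    [IsFractionRing A₀ K] [Algebra A K] [IsScalarTower A A₀ K] [Algebra Ab K]
    [IsScalarTower A Ab K] (hι : Function.Injective (algebraMap Ab K))
    (hfin : ∀ (A₁ : Type u) [CommRing A₁] [Algebra A A₁] [Module.Finite A A₁],
      IsOpenMap (PrimeSpectrum.comap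
        (Algebra.TensorProduct.includeRight : A₁ →ₐ[A] B ⊗[A] A₁).toRingHom))
    (qb : Ideal (Ab ⊗[A] B)) [qb.IsPrime] :
    ∃ cb : Ideal (Ab ⊗[A] B), cb.IsPrime ∧ cb ≤ qb ∧
      cb.under Ab = ⊥ ∧ Algebra.trdeg (Ab ⧸ qb.under Ab) ((Ab ⊗[A] B) ⧸ qb) ≤
        Algebra.trdeg (Ab ⧸ cb.under Ab) ((Ab ⊗[A] B) ⧸ cb) := by
  classical
  let μ : Ab ⊗[A] B →ₐ[A] K ⊗[A] B :=
    Algebra.TensorProduct.map (IsScalarTower.toAlgHom A Ab K) (AlgHom.id A B)
  have : IsNoetherianRing (K ⊗[A] B) := Algebra.FiniteType.isNoetherianRing K _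
  have hMfin : (minimalPrimes (K ⊗[A] B)).Finite := minimalPrimes.finite_of_isNoetherianRing _
  let M := {c : Ideal (K ⊗[A] B) //
    c ∈ minimalPrimes (K ⊗[A] B) ∧ ¬ c.comap μ.toRingHom ≤ qb}
  have := hMfin.to_subtype
  have : Finite M := Finite.of_injective
    (fun c : M => (⟨c.1, c.2.1⟩ : minimalPrimes (K ⊗[A] B)))
    (fun _ _ h => Subtype.ext (Subtype.mk.inj h :))
  choose t htc htq using fun c : M => Set.not_subset.1 c.2.2
  obtain ⟨A₁, hA₁fg, ht⟩ := exists_fg_forall_mem_range t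
  have hA₁i : Algebra.IsIntegral A A₁ := ⟨fun x =>
    (isIntegral_algHom_iff A₁.val Subtype.val_injective).1
      (Algebra.IsIntegral.isIntegral (A₁.val x))⟩
  have : Algebra.FiniteType A A₁ := (Subalgebra.fg_iff_finiteType A₁).1 hA₁fg
  have : Module.Finite A A₁ := Algebra.IsIntegral.finite
  have : IsNoetherianRing A₁ := IsNoetherianRing.of_finite A A₁
  have : Algebra.IsIntegral A₁ Ab := Algebra.IsIntegral.tower_top A
  let S := A₁ ⊗[A] B
  let μ₁ : S →ₐ[A] Ab ⊗[A] B := Algebra.TensorProduct.map A₁.val (AlgHom.id A B)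
  let _ : Algebra S (Ab ⊗[A] B) := μ₁.toRingHom.toAlgebra
  have : Algebra.IsIntegral S (Ab ⊗[A] B) :=
    ⟨isIntegral_tensor μ₁ fun b => ⟨(1 : A₁) ⊗ₜ b, rfl⟩⟩
  have hcomm : ∀ r : A₁, algebraMap S (Ab ⊗[A] B) (algebraMap A₁ S r) =
      algebraMap Ab (Ab ⊗[A] B) (algebraMap A₁ Ab r) := fun r => by
    show μ₁ (r ⊗ₜ[A] 1) = (r : Ab) ⊗ₜ[A] 1
    rfl
  let q₁ := qb.under S
  have hlift : ∀ p' : Ideal A₁, p'.IsPrime → p' ≤ q₁.under A₁ →
      ∃ q' : Ideal S, q'.IsPrime ∧ q' ≤ q₁ ∧ q'.under A₁ = p' := by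
    intro p' hp' hle
    let e : B ⊗[A] A₁ ≃ₐ[A] S := Algebra.TensorProduct.comm A B A₁
    have he : e.toRingEquiv.toRingHom.comp
        (Algebra.TensorProduct.includeRight : A₁ →ₐ[A] B ⊗[A] A₁).toRingHom = algebraMap A₁ S :=
      RingHom.ext fun r => by
        show e (1 ⊗ₜ[A] r) = r ⊗ₜ[A] 1
        rfl
    obtain ⟨Q', hQ', hQ'le, hQ'u⟩ := exists_le_comap_eq_of_isOpenMap _ (hfin A₁)
      (q₁.comap e.toRingEquiv.toRingHom) p' (by rw [Ideal.comap_comap, he]; exact hle)
    refine ⟨Q'.comap e.symm.toRingEquiv.toRingHom, hQ'.comap _, fun x hx => ?_, ?_⟩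
    · have h' : e (e.symm x) ∈ q₁ := hQ'le hx
      simpa using h'
    · rw [← hQ'u, Ideal.under_def, Ideal.comap_comap]
      congr 1
  obtain ⟨q₁', hq₁', hq₁le, hq₁0, hd⟩ := E4O.exists_trdeg_ge_of_lifts q₁ ⊥ bot_le hlift
  -- `q₁'` is the trace of a point of the generic fibre
  let F := q₁'.ResidueField
  let hS : S →ₐ[A] F := IsScalarTower.toAlgHom A S F
  let h₁ : A₁ →ₐ[A] F := hS.comp Algebra.TensorProduct.includeLeft
  have hh₁ : Function.Injective h₁ := (injective_iff_map_eq_zero _).2 fun x hx => by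
    have : x ∈ q₁'.under A₁ := (Ideal.algebraMap_residueField_eq_zero (I := q₁')
      (x := algebraMap A₁ S x)).1 hx
    rwa [hq₁0] at this
  have hAK : ∀ a : A, algebraMap Ab K ((algebraMap A A₁ a : A₁) : Ab) =
      algebraMap A₀ K (algebraMap A A₀ a) := fun a => by
    rw [A₁.coe_algebraMap, ← IsScalarTower.algebraMap_apply, ← IsScalarTower.algebraMap_apply]
  have hK₁ : Function.Injective fun x : A₁ => algebraMap Ab K x := hι.comp Subtype.val_injective
  let ρ : A₀ →+* F := (algebraMap A A₀).liftOfSurjective hsurj ⟨algebraMap A F, fun a ha => by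
    rw [RingHom.mem_ker, ← h₁.commutes, show algebraMap A A₁ a = 0 from hK₁ (by
      show algebraMap Ab K ((algebraMap A A₁ a : A₁) : Ab) = algebraMap Ab K ((0 : A₁) : Ab)
      rw [hAK, RingHom.mem_ker.1 ha]; simp), map_zero]⟩
  have hρA : ∀ a, ρ (algebraMap A A₀ a) = algebraMap A F a :=
    RingHom.liftOfRightInverse_comp_apply _ _ _ _
  have hρ : Function.Injective ρ := (injective_iff_map_eq_zero _).2 fun x hx => by
    obtain ⟨a, rfl⟩ := hsurj x
    rw [hρA] at hx
    have h1 := (injective_iff_map_eq_zero h₁).1 hh₁ _ ((h₁.commutes a).trans hx)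
    refine IsFractionRing.injective A₀ K ?_
    rw [map_zero, ← hAK a, h1]
    simp
  let κF : K →+* F := IsFractionRing.lift hρ
  have hκ : ∀ x : A₁, κF (algebraMap Ab K x) = h₁ x := fun x => by
    obtain ⟨⟨a, s⟩, has⟩ := IsLocalization.surj (nonZeroDivisors A₀) (algebraMap Ab K x)
    obtain ⟨a', ha'⟩ := hsurj a
    obtain ⟨s', hs'⟩ := hsurj s.1
    have he : x * algebraMap A A₁ s' = algebraMap A A₁ a' := hK₁ (by
      show algebraMap Ab K ((x * algebraMap A A₁ s' : A₁) : Ab) = _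
      rw [MulMemClass.coe_mul, map_mul, hAK, hs']
      exact has.trans (by rw [← ha', ← hAK]))
    have h1 := congrArg h₁ he
    rw [map_mul, h₁.commutes, h₁.commutes] at h1
    have h2 := congrArg κF has
    rw [map_mul, IsFractionRing.lift_algebraMap, IsFractionRing.lift_algebraMap, ← ha',
      ← hs', hρA, hρA] at h2
    refine mul_right_cancel₀ ?_ (h2.trans h1.symm)
    rw [← hρA, hs']
    exact (map_ne_zero_iff ρ hρ).2 (nonZeroDivisors.coe_ne_zero s)
  let κF' : K →ₐ[A] F := { κF with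
    commutes' := fun a => by
      rw [IsScalarTower.algebraMap_apply A A₀ K]
      exact (IsFractionRing.lift_algebraMap hρ _).trans (hρA a) }
  let gK : K ⊗[A] B →ₐ[A] F := Algebra.TensorProduct.lift κF'
    (hS.comp Algebra.TensorProduct.includeRight) fun _ _ => Commute.all _ _
  have hgK : gK.comp (μ.comp μ₁) = hS := Algebra.TensorProduct.ext'  fun x b => by
    show gK (μ (μ₁ (x ⊗ₜ[A] b))) = hS (x ⊗ₜ[A] b)
    simp only [μ, μ₁, gK, Algebra.TensorProduct.map_tmul, AlgHom.coe_id, id_eq,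
      Algebra.TensorProduct.lift_tmul]
    show κF (algebraMap Ab K x) * hS (1 ⊗ₜ[A] b) = _
    rw [hκ]
    show hS (x ⊗ₜ[A] 1) * hS (1 ⊗ₜ[A] b) = _
    rw [← map_mul, Algebra.TensorProduct.tmul_mul_tmul, mul_one, one_mul]
  have hQ : (RingHom.ker gK.toRingHom).IsPrime := RingHom.ker_isPrime _
  obtain ⟨c, hc, hcQ⟩ :=
    Ideal.exists_minimalPrimes_le (I := (⊥ : Ideal (K ⊗[A] B))) (J := RingHom.ker gK.toRingHom)
      bot_le
  have := hc.1.1
  let cb := c.comap μ.toRingHom
  have hcq₁ : cb.comap μ₁.toRingHom ≤ q₁' := fun x hx => by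
    have h0 : gK (μ (μ₁ x)) = 0 := hcQ hx
    rw [show gK (μ (μ₁ x)) = hS x from congr($hgK x)] at h0
    exact Ideal.algebraMap_residueField_eq_zero.1 h0
  have hcbq : cb ≤ qb := by
    by_contra hne
    obtain ⟨t₁, ht₁⟩ := ht ⟨c, hc, hne⟩
    refine htq ⟨c, hc, hne⟩ ?_
    rw [← ht₁]
    refine hq₁le (hcq₁ ?_)
    rw [Ideal.mem_comap]
    exact (congrArg (fun y => y ∈ cb) ht₁).mpr (htc ⟨c, hc, hne⟩)
  have hcb0 : cb.under Ab = ⊥ := by
    refine le_bot_iff.1 fun x hx => ?_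
    have h0 : algebraMap K (K ⊗[A] B) (algebraMap Ab K x) ∈ c := hx
    by_contra hx0
    exact hc.1.1.ne_top (Ideal.eq_top_of_isUnit_mem _ h0 ((isUnit_iff_ne_zero.2
      ((map_ne_zero_iff _ hι).2
        fun h => hx0 (by rw [h]; exact Ideal.zero_mem _))).map _))
  refine ⟨cb, hc.1.1.comap _, hcbq, hcb0, ?_⟩
  -- compare the transcendence degrees
  have := hc.1.1.comap μ.toRingHom
  rw [← trdeg_quotient_eq hcomm qb, ← trdeg_quotient_eq hcomm cb]
  have hcu : (cb.under S).under A₁ = ⊥ := by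
    refine le_bot_iff.1 fun x hx => ?_
    have h0 : (x : Ab) ∈ cb.under Ab := by
      change algebraMap S (Ab ⊗[A] B) (algebraMap A₁ S x) ∈ cb at hx
      rw [hcomm] at hx
      exact hx
    rw [hcb0] at h0
    exact Subtype.ext h0
  have : (cb.under S).LiesOver (⊥ : Ideal A₁) := ⟨hcu.symm⟩
  have : q₁'.LiesOver (⊥ : Ideal A₁) := ⟨hq₁0.symm⟩
  rw [E4O.trdeg_congr_under (cb.under S) ⊥ hcu]
  refine le_trans ?_ (trdeg_quotient_anti ⊥ (show cb.under S ≤ q₁' from hcq₁))
  rw [E4O.trdeg_congr_under q₁' ⊥ hq₁0] at hd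
  rw [← Cardinal.cast_toNat_of_lt_aleph0
      (E4O.trdeg_quotient_lt_aleph0 A₁ S (q₁.under A₁) q₁),
    ← Cardinal.cast_toNat_of_lt_aleph0 (E4O.trdeg_quotient_lt_aleph0 A₁ S ⊥ q₁')]
  exact Nat.cast_le.2 hd

set_option maxHeartbeats 800000 in
/-- Lifting along a normal base. -/
theorem exists_le_tensor_aux {A B A' Ab L : Type u} [CommRing A] [CommRing B] [Algebra A B]
    [Algebra.FiniteType A B] [CommRing A'] [Algebra A A'] [Algebra.FiniteType A A']
    [CommRing Ab] [IsDomain Ab] [IsIntegrallyClosed Ab] [Algebra A Ab] [Algebra.IsIntegral A Ab]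
    [Field L] [Algebra A L] (q : Ideal B)
    (hmax : ∀ q' : Ideal B, q'.IsPrime → q' ≤ q → q'.under A = q.under A → q' = q)
    (hcomp : ∀ qb : Ideal (Ab ⊗[A] B), qb.IsPrime → ∃ cb : Ideal (Ab ⊗[A] B), cb.IsPrime ∧ cb ≤ qb ∧
      cb.under Ab = ⊥ ∧ Algebra.trdeg (Ab ⧸ qb.under Ab) ((Ab ⊗[A] B) ⧸ qb) ≤
        Algebra.trdeg (Ab ⧸ cb.under Ab) ((Ab ⊗[A] B) ⧸ cb))
    (z : Ideal (B ⊗[A] A')) (hz : z.comap Algebra.TensorProduct.includeLeftRingHom = q)
    (gz : B ⊗[A] A' →ₐ[A] L) (hgz : RingHom.ker gz.toRingHom = z)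
    (g₂ : Ab ⊗[A] A' →ₐ[A] L)
    (hg₂ : g₂.comp (Algebra.TensorProduct.includeRight : A' →ₐ[A] Ab ⊗[A] A') =
      gz.comp Algebra.TensorProduct.includeRight)
    (wb : Ideal (Ab ⊗[A] A')) [wb.IsPrime] (hwbw₂ : wb ≤ RingHom.ker g₂.toRingHom)
    (w' : Ideal A')
    (hwb1 : wb.comap (Algebra.TensorProduct.includeRight : A' →ₐ[A] Ab ⊗[A] A').toRingHom = w') :
    ∃ z' : Ideal (B ⊗[A] A'), z'.IsPrime ∧ z' ≤ z ∧
      z'.comap (Algebra.TensorProduct.includeRight : A' →ₐ[A] B ⊗[A] A').toRingHom = w' := by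
  let f₂ : A' →ₐ[A] Ab ⊗[A] A' := Algebra.TensorProduct.includeRight
  let β : B →ₐ[A] L := gz.comp Algebra.TensorProduct.includeLeft
  let α : Ab →ₐ[A] L := g₂.comp Algebra.TensorProduct.includeLeft
  let gB : Ab ⊗[A] B →ₐ[A] L := Algebra.TensorProduct.lift α β fun _ _ => Commute.all _ _
  let qb := RingHom.ker gB.toRingHom
  have hqb : qb.IsPrime := RingHom.ker_isPrime _
  let fB : B →ₐ[A] Ab ⊗[A] B := Algebra.TensorProduct.includeRight
  have hqbB : qb.comap fB.toRingHom = q := by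
    rw [RingHom.comap_ker, show gB.toRingHom.comp fB.toRingHom = gz.toRingHom.comp
        Algebra.TensorProduct.includeLeftRingHom from RingHom.ext fun b => by
          show gB (1 ⊗ₜ[A] b) = β b
          simp [gB], ← RingHom.comap_ker, hgz, hz]
  have hfB : fB.toRingHom.IsIntegral := isIntegral_tensor fB fun b => ⟨b, rfl⟩
  have hqbA : (qb.under Ab).under A = q.under A := by
    conv_rhs => rw [← hqbB]
    ext a
    simp only [Ideal.under_def, Ideal.mem_comap, AlgHom.toRingHom_eq_coe, AlgHom.coe_toRingHom,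
      AlgHom.commutes, ← IsScalarTower.algebraMap_apply]
  have hmax' : ∀ q' : Ideal (Ab ⊗[A] B), q'.IsPrime → q' ≤ qb → q'.under Ab = qb.under Ab →
      q' = qb := by
    intro q' hq' hle hu
    refine eq_of_le_of_comap_eq fB.toRingHom hfB hle ?_
    rw [hqbB]
    refine hmax _ (hq'.comap _) (hqbB ▸ Ideal.comap_mono hle) ?_
    rw [← hqbA, ← hu]
    ext a
    simp only [Ideal.under_def, Ideal.mem_comap, AlgHom.toRingHom_eq_coe, AlgHom.coe_toRingHom,
      AlgHom.commutes, ← IsScalarTower.algebraMap_apply]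
  -- apply the criterion over the normal base
  let _ : Algebra Ab L := α.toRingHom.toAlgebra
  let gB' : Ab ⊗[A] B →ₐ[Ab] L := { gB.toRingHom with
    commutes' := fun a => by
      show gB (a ⊗ₜ[A] 1) = α a
      simp [gB] }
  let g₂'' : Ab ⊗[A] A' →ₐ[Ab] L := { g₂.toRingHom with
    commutes' := fun a => rfl }
  let T := (Ab ⊗[A] B) ⊗[Ab] (Ab ⊗[A] A')
  let gT : T →ₐ[Ab] L := Algebra.TensorProduct.lift gB' g₂'' fun _ _ => Commute.all _ _
  let zb := RingHom.ker gT.toRingHom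
  have hzb : zb.IsPrime := RingHom.ker_isPrime _
  have hzq : zb.comap Algebra.TensorProduct.includeLeftRingHom = qb := by
    rw [RingHom.comap_ker]
    congr 1
    refine RingHom.ext fun x => ?_
    show gT (x ⊗ₜ[Ab] 1) = gB x
    exact (Algebra.TensorProduct.lift_tmul _ _ _ _ _).trans (by rw [map_one, mul_one]; rfl)
  have hzw : wb ≤ zb.comap
      (Algebra.TensorProduct.includeRight : Ab ⊗[A] A' →ₐ[Ab] T).toRingHom := by
    rw [RingHom.comap_ker, show gT.toRingHom.comp
      (Algebra.TensorProduct.includeRight : Ab ⊗[A] A' →ₐ[Ab] T).toRingHom = g₂.toRingHom from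
      RingHom.ext fun x => by
        show gT (1 ⊗ₜ[Ab] x) = g₂ x
        exact (Algebra.TensorProduct.lift_tmul _ _ _ _ _).trans (by rw [map_one, one_mul]; rfl)]
    exact hwbw₂
  let Ap := Localization.AtPrime (qb.under Ab)
  have : IsIntegrallyClosed Ap := isIntegrallyClosed_of_isLocalization Ap
    (qb.under Ab).primeCompl (Ideal.primeCompl_le_nonZeroDivisors _)
  obtain ⟨cb, hcb, hcle, hc0, hdeg⟩ := hcomp qb hqb
  obtain ⟨zc, hzc, hzcz, hzcw⟩ := E4O.Gen.exists_le_tensor_of_geomUnibranch (A' := Ab ⊗[A] A')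
    cb qb hcle Ap (isGeomUnibranch_of_isIntegrallyClosed Ap)
    (fun p' _ _ => by rw [hc0]; exact bot_le) hmax' hdeg zb hzq wb hzw
  let Ψ : B ⊗[A] A' →ₐ[A] T := Algebra.TensorProduct.lift
    ((Algebra.TensorProduct.includeLeft : Ab ⊗[A] B →ₐ[A] T).comp fB)
    (((Algebra.TensorProduct.includeRight : Ab ⊗[A] A' →ₐ[Ab] T).restrictScalars A).comp f₂)
    fun _ _ => Commute.all _ _
  have l1 : ∀ x, gT (x ⊗ₜ[Ab] 1) = gB x := fun x =>
    (Algebra.TensorProduct.lift_tmul _ _ _ _ _).trans (by rw [map_one, mul_one]; rfl)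
  have l2 : ∀ x, gT (1 ⊗ₜ[Ab] x) = g₂ x := fun x =>
    (Algebra.TensorProduct.lift_tmul _ _ _ _ _).trans (by rw [map_one, one_mul]; rfl)
  have hΨ : gT.toRingHom.comp Ψ.toRingHom = gz.toRingHom := by
    refine RingHom.ext fun x => ?_
    induction x using TensorProduct.induction_on with
    | zero => simp
    | add x y hx hy => rw [map_add, map_add, hx, hy]
    | tmul b a =>
      show gT (Ψ (b ⊗ₜ[A] a)) = gz (b ⊗ₜ[A] a)
      simp only [Ψ, gT, fB, f₂, Algebra.TensorProduct.lift_tmul, AlgHom.comp_apply,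
        AlgHom.restrictScalars_apply, Algebra.TensorProduct.includeLeft_apply,
        Algebra.TensorProduct.includeRight_apply, map_mul, map_one, mul_one, one_mul]
      refine (congrArg₂ (· * ·) (l1 _) (l2 _)).trans ?_
      show gB (1 ⊗ₜ[A] b) * g₂ (f₂ a) = _
      rw [show g₂ (f₂ a) = gz (1 ⊗ₜ[A] a) from congr($hg₂ a),
        show b ⊗ₜ[A] a = (b ⊗ₜ[A] (1 : A')) * ((1 : B) ⊗ₜ[A] a) by simp, map_mul]
      simp [gB, β]
  refine ⟨zc.comap Ψ.toRingHom, hzc.comap _, ?_, ?_⟩
  · rw [← hgz, ← hΨ, ← RingHom.comap_ker]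
    exact Ideal.comap_mono hzcz
  · rw [← hwb1, ← hzcw, Ideal.comap_comap, Ideal.comap_comap]
    congr 1
    refine RingHom.ext fun a => ?_
    show Ψ (1 ⊗ₜ[A] a) = _
    simp [Ψ, f₂]
    exact one_mul _

set_option maxHeartbeats 800000 in
set_option synthInstance.maxHeartbeats 200000 in
/-- The key point, with the normal base given abstractly. -/
theorem exists_le_tensor_of_model {A B A' A₀ Ab K : Type u} [CommRing A] [IsNoetherianRing A]
    [CommRing B] [Algebra A B] [Algebra.FiniteType A B] [CommRing A'] [Algebra A A']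
    [Algebra.FiniteType A A'] [CommRing A₀] [Algebra A A₀] [IsDomain A₀]
    (hsurj : Function.Surjective (algebraMap A A₀))
    [CommRing Ab] [IsDomain Ab] [IsIntegrallyClosed Ab] [Algebra A Ab] [Algebra.IsIntegral A Ab]
    [Field K] [Algebra A₀ K] [IsFractionRing A₀ K] [Algebra A K] [IsScalarTower A A₀ K]
    [Algebra Ab K] [IsScalarTower A Ab K] (hι : Function.Injective (algebraMap Ab K))
    (q : Ideal B) [q.IsPrime]
    (hmax : ∀ q' : Ideal B, q'.IsPrime → q' ≤ q → q'.under A = q.under A → q' = q)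
    (hfin : ∀ (A₁ : Type u) [CommRing A₁] [Algebra A A₁] [Module.Finite A A₁],
      IsOpenMap (PrimeSpectrum.comap
        (Algebra.TensorProduct.includeRight : A₁ →ₐ[A] B ⊗[A] A₁).toRingHom))
    (z : Ideal (B ⊗[A] A')) [z.IsPrime]
    (hz : z.comap Algebra.TensorProduct.includeLeftRingHom = q) (w' : Ideal A') [w'.IsPrime]
    (hker : RingHom.ker (algebraMap A A₀) = w'.under A)
    (hw : w' ≤ z.comap (Algebra.TensorProduct.includeRight : A' →ₐ[A] B ⊗[A] A').toRingHom) :
    ∃ z' : Ideal (B ⊗[A] A'), z'.IsPrime ∧ z' ≤ z ∧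
      z'.comap (Algebra.TensorProduct.includeRight : A' →ₐ[A] B ⊗[A] A').toRingHom = w' := by
  classical
  let L₀ := w'.ResidueField
  let ι₀ : A₀ →+* L₀ := (algebraMap A A₀).liftOfSurjective hsurj ⟨algebraMap A L₀, fun a ha => by
    rw [RingHom.mem_ker, IsScalarTower.algebraMap_apply A A' L₀,
      Ideal.algebraMap_residueField_eq_zero]
    exact hker.le ha⟩
  have hι₀A : ∀ a, ι₀ (algebraMap A A₀ a) = algebraMap A L₀ a :=
    RingHom.liftOfRightInverse_comp_apply _ _ _ _
  have hι₀ : Function.Injective ι₀ := (injective_iff_map_eq_zero _).2 fun x hx => by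
    obtain ⟨a, rfl⟩ := hsurj x
    refine RingHom.mem_ker.1 (hker.ge ?_)
    rw [hι₀A] at hx
    rw [IsScalarTower.algebraMap_apply A A' L₀, Ideal.algebraMap_residueField_eq_zero] at hx
    exact hx
  let κ₀ : K →+* L₀ := IsFractionRing.lift hι₀
  let αw : Ab →ₐ[A] L₀ :=
    { κ₀.comp (algebraMap Ab K) with
      commutes' := fun a => by
        show κ₀ (algebraMap Ab K (algebraMap A Ab a)) = _
        rw [← IsScalarTower.algebraMap_apply A Ab K, IsScalarTower.algebraMap_apply A A₀ K,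
          IsFractionRing.lift_algebraMap]
        exact hι₀A a }
  have hαw : Function.Injective αw :=
    κ₀.injective.comp hι
  let f₂ : A' →ₐ[A] Ab ⊗[A] A' := Algebra.TensorProduct.includeRight
  let gw : Ab ⊗[A] A' →ₐ[A] L₀ :=
    Algebra.TensorProduct.lift αw (IsScalarTower.toAlgHom A A' L₀) fun _ _ => Commute.all _ _
  let wb := RingHom.ker gw.toRingHom
  have hwb : wb.IsPrime := RingHom.ker_isPrime _
  have hwb1 : wb.comap f₂.toRingHom = w' := by
    rw [RingHom.comap_ker,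
      show gw.toRingHom.comp f₂.toRingHom = algebraMap A' L₀ from RingHom.ext fun a => by
        simp [gw, f₂], Ideal.ker_algebraMap_residueField]
  let P := z.comap (Algebra.TensorProduct.includeRight : A' →ₐ[A] B ⊗[A] A').toRingHom
  have hf₂ := isIntegral_tensor f₂ fun a => ⟨a, rfl⟩
  obtain ⟨w₂, hw₂, hwbw₂, hw₂P⟩ : ∃ w₂ : Ideal (Ab ⊗[A] A'),
      w₂.IsPrime ∧ wb ≤ w₂ ∧ w₂.comap f₂.toRingHom = P := by
    let _ : Algebra A' (Ab ⊗[A] A') := f₂.toRingHom.toAlgebra
    have : Algebra.IsIntegral A' (Ab ⊗[A] A') := ⟨hf₂⟩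
    obtain ⟨w₂, h1, h2, h3⟩ :=
      Ideal.exists_ideal_over_prime_of_isIntegral_of_isPrime P wb (hwb1.le.trans hw)
    exact ⟨w₂, h2, h1, h3⟩
  -- a field over `z` and `w₂`
  let L := AlgebraicClosure z.ResidueField
  let gz : B ⊗[A] A' →ₐ[A] L :=
    (IsScalarTower.toAlgHom A z.ResidueField L).comp (IsScalarTower.toAlgHom A _ z.ResidueField)
  have hgz : RingHom.ker gz.toRingHom = z := by
    ext x
    exact (map_eq_zero_iff _ (algebraMap z.ResidueField L).injective).trans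
      Ideal.algebraMap_residueField_eq_zero
  let gP : A' →+* L :=
    gz.toRingHom.comp (Algebra.TensorProduct.includeRight : A' →ₐ[A] B ⊗[A] A').toRingHom
  have hgP : RingHom.ker gP = P := by rw [← RingHom.comap_ker, hgz]
  obtain ⟨g₂, hg₂, hg₂k⟩ : ∃ g₂ : Ab ⊗[A] A' →+* L,
      g₂.comp f₂.toRingHom = gP ∧ RingHom.ker g₂ = w₂ := by
    let E := (Ab ⊗[A] A') ⧸ w₂
    let _ : Algebra (A' ⧸ P) E := (Ideal.quotientMap w₂ f₂.toRingHom hw₂P.ge).toAlgebra
    let _ : Algebra (A' ⧸ P) L := (Ideal.Quotient.lift P gP fun a ha => hgP.ge ha).toAlgebra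
    have : FaithfulSMul (A' ⧸ P) E := (faithfulSMul_iff_algebraMap_injective _ _).2
      (Ideal.quotientMap_injective' hw₂P.le)
    have : FaithfulSMul (A' ⧸ P) L := (faithfulSMul_iff_algebraMap_injective _ _).2
      (RingHom.lift_injective_of_ker_le_ideal P _ hgP.le)
    have : Algebra.IsIntegral (A' ⧸ P) E := ⟨fun x => by
      obtain ⟨x, rfl⟩ := Ideal.Quotient.mk_surjective x
      let _ : Algebra A' (Ab ⊗[A] A') := f₂.toRingHom.toAlgebra
      exact (show IsIntegral A' x from hf₂ x).map_of_comp_eq (Ideal.Quotient.mk P)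
        (Ideal.Quotient.mk w₂) rfl⟩
    let h : E →ₐ[A' ⧸ P] L := IsAlgClosed.lift
    have hh : Function.Injective h := by
      rw [← AlgHom.coe_toRingHom, RingHom.injective_iff_ker_eq_bot]
      refine Ideal.IsIntegral.eq_bot_of_comap_eq_bot (A' ⧸ P) ?_
      rw [RingHom.comap_ker, ← RingHom.injective_iff_ker_eq_bot, h.comp_algebraMap]
      exact FaithfulSMul.algebraMap_injective _ _
    refine ⟨h.toRingHom.comp (Ideal.Quotient.mk w₂), RingHom.ext fun a => ?_, ?_⟩
    · exact h.commutes (Ideal.Quotient.mk P a)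
    · rw [← RingHom.comap_ker, (RingHom.injective_iff_ker_eq_bot h.toRingHom).1 hh, ← RingHom.ker_eq_comap_bot,
        Ideal.mk_ker]
  let g₂' : Ab ⊗[A] A' →ₐ[A] L := { g₂ with
    commutes' := fun a => by
      show g₂ (algebraMap A (Ab ⊗[A] A') a) = _
      rw [← f₂.commutes a]
      refine (congr($hg₂ (algebraMap A A' a))).trans ?_
      exact ((congrArg gz (AlgHom.commutes _ a)).trans (gz.commutes a)) }
  exact exists_le_tensor_aux q hmax
    (fun qb _ => exists_component (A₀ := A₀) (K := K) hsurj hι hfin qb)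
    z hz gz hgz g₂' (AlgHom.ext fun a => congr($hg₂ a)) wb (hwbw₂.trans hg₂k.ge) w' hwb1

theorem finiteModel {A : Type u} [CommRing A] (p : Ideal A) [p.IsPrime] :
    Algebra.IsIntegral A (integralClosure (A ⧸ p) (FractionRing (A ⧸ p))) :=
  Algebra.IsIntegral.trans (A ⧸ p)

/-- The key point: over a Noetherian ring, if every finite base change of `Spec B → Spec A` is open,
then after a base change of finite type generizations lift to a point over `q` minimal in its
fibre. -/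
theorem exists_le_tensor_of_finite {A B A' : Type u} [CommRing A] [IsNoetherianRing A] [CommRing B]
    [Algebra A B] [Algebra.FiniteType A B] [CommRing A'] [Algebra A A'] [Algebra.FiniteType A A']
    (q : Ideal B) [q.IsPrime]
    (hmax : ∀ q' : Ideal B, q'.IsPrime → q' ≤ q → q'.under A = q.under A → q' = q)
    (hfin : ∀ (A₁ : Type u) [CommRing A₁] [Algebra A A₁] [Module.Finite A A₁],
      IsOpenMap (PrimeSpectrum.comap
        (Algebra.TensorProduct.includeRight : A₁ →ₐ[A] B ⊗[A] A₁).toRingHom))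
    (z : Ideal (B ⊗[A] A')) [z.IsPrime]
    (hz : z.comap Algebra.TensorProduct.includeLeftRingHom = q) (w' : Ideal A') [w'.IsPrime]
    (hw : w' ≤ z.comap (Algebra.TensorProduct.includeRight : A' →ₐ[A] B ⊗[A] A').toRingHom) :
    ∃ z' : Ideal (B ⊗[A] A'), z'.IsPrime ∧ z' ≤ z ∧
      z'.comap (Algebra.TensorProduct.includeRight : A' →ₐ[A] B ⊗[A] A').toRingHom = w' := by
  have := finiteModel (w'.under A)
  have : IsIntegrallyClosed (integralClosure (A ⧸ w'.under A) (FractionRing (A ⧸ w'.under A))) :=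
    integralClosure.isIntegrallyClosedOfFiniteExtension (FractionRing (A ⧸ w'.under A))
  exact exists_le_tensor_of_model (A₀ := A ⧸ w'.under A)
    (Ab := integralClosure (A ⧸ w'.under A) (FractionRing (A ⧸ w'.under A)))
    (K := FractionRing (A ⧸ w'.under A)) Ideal.Quotient.mk_surjective Subtype.val_injective
    q hmax hfin z hz w' Ideal.mk_ker hw

end Groth.Agent.Open62.FiniteTest
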