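import Mathlib.RingTheory.Smooth.Fiber
import Mathlib.RingTheory.Smooth.Locus
import Mathlib.RingTheory.LocalRing.ResidueField.Fiber
import Mathlib.RingTheory.Localization.BaseChange

/-! Smoothness at a prime from flatness and smoothness of the fibre at that prime. -/

set_option autoImplicit false
universe u

open TensorProduct

namespace Groth.Agent.Open62

/-- Flat, finitely presented, and smooth fibre at a prime imply smooth at the prime. -/
theorem isSmoothAt_of_fibre {R S : Type u} [CommRing R] [CommRing S] [Algebra R S]
    [Algebra.FinitePresentation R S] [Module.Flat R S] (p : Ideal R) [p.IsPrime]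
    (Q : Ideal (p.Fiber S)) [Q.IsPrime] [Algebra.IsSmoothAt p.ResidueField Q] :
    Algebra.IsSmoothAt R (Q.comap Algebra.TensorProduct.includeRight.toRingHom) := by
  obtain ⟨c, hcQ, hc⟩ := Algebra.IsSmoothAt.exists_notMem_smooth p.ResidueField Q
  obtain ⟨r, hr, s, hs⟩ := Ideal.Fiber.exists_smul_eq_one_tmul p c
  have hu : IsUnit (algebraMap R (p.Fiber S) r) := by
    rw [IsScalarTower.algebraMap_apply R p.ResidueField (p.Fiber S)]
    exact (isUnit_iff_ne_zero.mpr (mt Ideal.algebraMap_residueField_eq_zero.mp hr)).map _
  have hsQ : (1 : p.ResidueField) ⊗ₜ[R] s ∉ Q := by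
    rw [← hs, Algebra.smul_def]
    exact fun h => hcQ ((Ideal.unit_mul_mem_iff_mem Q hu).mp h)
  have : Algebra.Smooth p.ResidueField (Localization.Away ((1 : p.ResidueField) ⊗ₜ[R] s)) := by
    refine Algebra.basicOpen_subset_smoothLocus_iff_smooth.mp (Set.Subset.trans ?_
      (Algebra.basicOpen_subset_smoothLocus_iff_smooth.mpr hc))
    intro P hP
    have h1 : (1 : p.ResidueField) ⊗ₜ[R] s ∉ P.asIdeal := hP
    rw [← hs, Algebra.smul_def] at h1
    exact fun h => h1 (Ideal.mul_mem_left _ _ h)
  let S' := Localization.Away s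
  have : Algebra.FormallySmooth p.ResidueField (p.Fiber S') :=
    Algebra.FormallySmooth.of_equiv
      (IsLocalization.Away.tensorProductEquivTMulRight R p.ResidueField s S').symm
  have : Algebra.FinitePresentation S S' := IsLocalization.Away.finitePresentation s
  have : Algebra.FinitePresentation R S' := Algebra.FinitePresentation.trans R S S'
  have : Module.Flat S S' := IsLocalization.flat _ (Submonoid.powers s)
  have : Module.Flat R S' := Module.Flat.trans R S S'
  let q := Q.comap (Algebra.TensorProduct.includeRight : S →ₐ[R] p.Fiber S).toRingHom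
  have hq : q.LiesOver p := by
    refine ⟨?_⟩
    ext a
    show a ∈ p ↔ Algebra.TensorProduct.includeRight (algebraMap R S a) ∈ Q
    rw [AlgHom.commutes, IsScalarTower.algebraMap_apply R p.ResidueField (p.Fiber S)]
    constructor
    · intro ha
      rw [Ideal.algebraMap_residueField_eq_zero.mpr ha, map_zero]
      exact zero_mem _
    · intro ha
      by_contra hap
      exact Ideal.IsPrime.ne_top' (Ideal.eq_top_of_isUnit_mem Q ha
        ((isUnit_iff_ne_zero.mpr (mt Ideal.algebraMap_residueField_eq_zero.mp hap)).map _))
  have hqs : (⟨q, inferInstance⟩ : PrimeSpectrum S) ∈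
      Set.range (PrimeSpectrum.comap (algebraMap S S')) := by
    rw [PrimeSpectrum.localization_away_comap_range S' s]
    exact hsQ
  obtain ⟨q', hq'⟩ := hqs
  have hq'p : q'.asIdeal.LiesOver p := by
    have h1 : q'.asIdeal.comap (algebraMap S S') = q := congrArg PrimeSpectrum.asIdeal hq'
    refine ⟨?_⟩
    rw [Ideal.under_def, IsScalarTower.algebraMap_eq R S S', ← Ideal.comap_comap, h1]
    exact hq.over
  have h2 : Algebra.IsSmoothAt R q'.asIdeal := Algebra.IsSmoothAt.of_formallySmooth_fiber p _
  have h3 := (Algebra.smoothLocus_comap_of_isLocalization (R := R) (A := S) (Af := S') s).ge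
    (show q' ∈ Algebra.smoothLocus R S' from h2)
  rw [Set.mem_preimage, hq'] at h3
  exact h3

end Groth.Agent.Open62
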