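import Groth.Agent.Open62.SmoothRing
import Groth.Agent.Unr55.DescSmooth
import Groth.Agent.Unr55.StalkCrit
import Mathlib.AlgebraicGeometry.PullbackCarrier
import Mathlib.AlgebraicGeometry.Morphisms.Flat

/-! The smooth locus under base change. -/

set_option autoImplicit false
universe u

open CategoryTheory Limits AlgebraicGeometry TensorProduct

namespace Groth.Agent.Open62

instance isPrime_point {S : Type u} [CommRing S] (q : Spec (CommRingCat.of S)) :
    (PrimeSpectrum.asIdeal (R := S) q).IsPrime := q.isPrime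

variable {X' X S' S₀ : Scheme.{u}} {f : X ⟶ S₀} {g : S' ⟶ S₀} {f' : X' ⟶ S'} {g' : X' ⟶ X}

set_option backward.isDefEq.respectTransparency.types false in
theorem isStableUnderBaseChange_smooth :
    MorphismProperty.IsStableUnderBaseChange (@Smooth : MorphismProperty Scheme.{u}) := inferInstance

/-- Smoothness at a point is stable under base change. -/
theorem preimage_smoothLocus_le (h : IsPullback g' f' f g) [LocallyOfFinitePresentation f]
    [LocallyOfFinitePresentation f'] : g' ⁻¹ᵁ f.smoothLocus ≤ f'.smoothLocus := by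
  have := isStableUnderBaseChange_smooth.{u}
  intro p hp
  let W := f.smoothLocus
  have hW : Smooth (W.ι ≫ f) := by
    rw [← Scheme.Hom.smoothLocus_eq_top_iff, ← Scheme.Hom.preimage_smoothLocus_eq]
    exact Scheme.Opens.ι_preimage_self W
  have h3 : Smooth ((g' ⁻¹ᵁ W).ι ≫ f') :=
    MorphismProperty.of_isPullback ((isPullback_morphismRestrict g' W).paste_vert h) hW
  have h4 := ((g' ⁻¹ᵁ W).ι ≫ f').smoothLocus_eq_top
  rw [← Scheme.Hom.preimage_smoothLocus_eq] at h4
  exact (h4.ge (Set.mem_univ (⟨p, hp⟩ : (g' ⁻¹ᵁ W : Scheme.{u}))) : _)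

set_option backward.isDefEq.respectTransparency.types false in
set_option maxHeartbeats 800000 in
theorem mem_smoothLocus_of_square {Y T : Scheme.{u}} {u : Y ⟶ T} {a : X ⟶ S₀} (i : Y ⟶ X) (k : T ⟶ S₀)
    [IsOpenImmersion i] [IsOpenImmersion k] [LocallyOfFinitePresentation a] [LocallyOfFinitePresentation u]
    (w : i ≫ a = u ≫ k) (y : Y) : i y ∈ a.smoothLocus ↔ y ∈ u.smoothLocus := by
  rw [Scheme.Hom.mem_smoothLocus, Scheme.Hom.mem_smoothLocus]
  exact Unr55.stalkMap_iff_of_square (P := RingHom.FormallySmooth) RingHom.FormallySmooth.respectsIso a u i k w y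

theorem mem_smoothLocus_spec_iff {R S : Type u} [CommRing R] [CommRing S] [Algebra R S]
    [LocallyOfFinitePresentation (Spec.map (CommRingCat.ofHom (algebraMap R S)))] (q : Spec (CommRingCat.of S)) :
    q ∈ (Spec.map (CommRingCat.ofHom (algebraMap R S))).smoothLocus ↔
      Algebra.IsSmoothAt R q.asIdeal :=
  ((RingHom.FormallySmooth.respectsIso.arrow_mk_iso_iff (Scheme.arrowStalkMapSpecIso _ q))).trans
    (Unr55.localRingHom_formallySmooth_iff (R := R) q.asIdeal)

/-- An affine chart of a fibre product. -/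
theorem exists_chart (h : IsPullback g' f' f g) {R S R' : Type u} [CommRing R] [CommRing S] [CommRing R']
    [Algebra R S] [Algebra R R'] (k : Spec (CommRingCat.of R) ⟶ S₀) (j : Spec (CommRingCat.of S) ⟶ X)
    (k' : Spec (CommRingCat.of R') ⟶ S') [IsOpenImmersion k] [IsOpenImmersion j] [IsOpenImmersion k']
    (hj : j ≫ f = Spec.map (CommRingCat.ofHom (algebraMap R S)) ≫ k)
    (hk : k' ≫ g = Spec.map (CommRingCat.ofHom (algebraMap R R')) ≫ k) :
    ∃ i : Spec (CommRingCat.of (R' ⊗[R] S)) ⟶ X', IsOpenImmersion i ∧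
      i ≫ f' = Spec.map (CommRingCat.ofHom (algebraMap R' (R' ⊗[R] S))) ≫ k' ∧
      i ≫ g' = Spec.map (CommRingCat.ofHom
        (Algebra.TensorProduct.includeRight : S →ₐ[R] R' ⊗[R] S).toRingHom) ≫ j ∧
      ∀ x' : X', g' x' ∈ Set.range j → f' x' ∈ Set.range k' → x' ∈ Set.range i := by
  have hp := isPullback_SpecMap_of_isPushout _ _ _ _ (CommRingCat.isPushout_tensorProduct R R' S)
  let m := pullback.map (Spec.map (CommRingCat.ofHom (algebraMap R S)))
    (Spec.map (CommRingCat.ofHom (algebraMap R R'))) f g j k' k hj.symm hk.symm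
  refine ⟨hp.flip.isoPullback.hom ≫ m ≫ h.isoPullback.inv, inferInstance, ?_, ?_, fun x' h1 h2 => ?_⟩
  · simp only [Category.assoc, IsPullback.isoPullback_inv_snd, m, pullback.map, pullback.lift_snd,
      IsPullback.isoPullback_hom_snd_assoc]
  · simp only [Category.assoc, IsPullback.isoPullback_inv_fst, m, pullback.map, pullback.lift_fst,
      IsPullback.isoPullback_hom_fst_assoc]
  · have hz : h.isoPullback.hom x' ∈ Set.range m := by
      rw [Scheme.Pullback.range_map]
      refine ⟨?_, ?_⟩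
      · rw [Set.mem_preimage, ← Scheme.Hom.comp_apply, IsPullback.isoPullback_hom_fst]
        exact h1
      · rw [Set.mem_preimage, ← Scheme.Hom.comp_apply, IsPullback.isoPullback_hom_snd]
        exact h2
    obtain ⟨t, ht⟩ := hz
    refine ⟨hp.flip.isoPullback.inv t, ?_⟩
    rw [← Scheme.Hom.comp_apply, Iso.inv_hom_id_assoc, Scheme.Hom.comp_apply, ht,
      ← Scheme.Hom.comp_apply, Iso.hom_inv_id]
    simp

/-- Smoothness at a point descends along a flat base change. -/
theorem smoothLocus_of_isPullback_flat (h : IsPullback g' f' f g) [LocallyOfFinitePresentation f]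
    [LocallyOfFinitePresentation f'] [Flat g] : f'.smoothLocus = g' ⁻¹ᵁ f.smoothLocus := by
  refine le_antisymm (fun x' hx' => ?_) (preimage_smoothLocus_le h)
  have hs : g (f' x') = f (g' x') := by rw [← Scheme.Hom.comp_apply, ← h.w, Scheme.Hom.comp_apply]
  obtain ⟨_, ⟨V, hV, rfl⟩, hxV, -⟩ :=
    S₀.isBasis_affineOpens.exists_subset_of_mem_open (Set.mem_univ (f (g' x'))) isOpen_univ
  obtain ⟨_, ⟨U, hU, rfl⟩, hxU, e⟩ :=
    X.isBasis_affineOpens.exists_subset_of_mem_open hxV (V.2.preimage f.continuous)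
  replace hV : IsAffineOpen V := hV
  replace hU : IsAffineOpen U := hU
  obtain ⟨_, ⟨V', hV', rfl⟩, hxV', e'⟩ :=
    S'.isBasis_affineOpens.exists_subset_of_mem_open (show f' x' ∈ g ⁻¹ᵁ V by
      show g (f' x') ∈ V
      rw [hs]; exact hxV) (V.2.preimage g.continuous)
  replace hV' : IsAffineOpen V' := hV'
  have hfp := f.finitePresentation_appLE hV hU e
  have hfl : (g.appLE V V' e').hom.Flat := HasRingHomProperty.appLE (P := @Flat) g ‹_› ⟨V, hV⟩ ⟨V', hV'⟩ e'
  let _ : Algebra Γ(S₀, V) Γ(X, U) := (f.appLE V U e).hom.toAlgebra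
  let _ : Algebra Γ(S₀, V) Γ(S', V') := (g.appLE V V' e').hom.toAlgebra
  have : Algebra.FinitePresentation Γ(S₀, V) Γ(X, U) := hfp
  have : Module.Flat Γ(S₀, V) Γ(S', V') := hfl
  obtain ⟨i, hi, hif, hig, hir⟩ := exists_chart h (R := Γ(S₀, V)) (S := Γ(X, U)) (R' := Γ(S', V'))
    hV.fromSpec hU.fromSpec hV'.fromSpec (hV.SpecMap_appLE_fromSpec f hU e).symm
    (hV.SpecMap_appLE_fromSpec g hV' e').symm
  obtain ⟨Q, rfl⟩ := hir x' (by rw [IsAffineOpen.range_fromSpec]; exact hxU)
    (by rw [IsAffineOpen.range_fromSpec]; exact hxV')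
  have : LocallyOfFinitePresentation
      (Spec.map (CommRingCat.ofHom (algebraMap Γ(S', V') (Γ(S', V') ⊗[Γ(S₀, V)] Γ(X, U))))) :=
    (HasRingHomProperty.Spec_iff (P := @LocallyOfFinitePresentation)).mpr
      (RingHom.finitePresentation_algebraMap.mpr inferInstance)
  have : LocallyOfFinitePresentation (Spec.map (CommRingCat.ofHom (algebraMap Γ(S₀, V) Γ(X, U)))) :=
    (HasRingHomProperty.Spec_iff (P := @LocallyOfFinitePresentation)).mpr
      (RingHom.finitePresentation_algebraMap.mpr inferInstance)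
  rw [mem_smoothLocus_of_square i hV'.fromSpec hif, mem_smoothLocus_spec_iff] at hx'
  show g' (i Q) ∈ f.smoothLocus
  rw [← Scheme.Hom.comp_apply, hig, Scheme.Hom.comp_apply,
    mem_smoothLocus_of_square hU.fromSpec hV.fromSpec (hV.SpecMap_appLE_fromSpec f hU e).symm]
  exact (mem_smoothLocus_spec_iff _).mpr (Unr55.isSmoothAt_of_baseChange Q.asIdeal hx')

/-- For a flat morphism, smoothness at a point is smoothness of the fibre at that point. -/
theorem mem_smoothLocus_of_flat_of_fibre [LocallyOfFinitePresentation f] [Flat f] (x : X)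
    (hfib : ∀ (K : Type u) [Field K] (t : Spec (CommRingCat.of K) ⟶ S₀) (p : ↥(pullback f t))
      [LocallyOfFinitePresentation (pullback.snd f t)],
      pullback.fst f t p = x → p ∈ (pullback.snd f t).smoothLocus) : x ∈ f.smoothLocus := by
  obtain ⟨_, ⟨V, hV, rfl⟩, hxV, -⟩ :=
    S₀.isBasis_affineOpens.exists_subset_of_mem_open (Set.mem_univ (f x)) isOpen_univ
  obtain ⟨_, ⟨U, hU, rfl⟩, hxU, e⟩ :=
    X.isBasis_affineOpens.exists_subset_of_mem_open hxV (V.2.preimage f.continuous)
  replace hV : IsAffineOpen V := hV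
  replace hU : IsAffineOpen U := hU
  let R := Γ(S₀, V)
  let S := Γ(X, U)
  let _ : Algebra R S := (f.appLE V U e).hom.toAlgebra
  have : Algebra.FinitePresentation R S := f.finitePresentation_appLE hV hU e
  have : Module.Flat R S := HasRingHomProperty.appLE (P := @Flat) f ‹_› ⟨V, hV⟩ ⟨U, hU⟩ e
  obtain ⟨q, hq⟩ : x ∈ Set.range hU.fromSpec := by rw [IsAffineOpen.range_fromSpec]; exact hxU
  let p := q.asIdeal.comap (algebraMap R S)
  have : q.asIdeal.IsPrime := q.isPrime
  have : p.IsPrime := Ideal.comap_isPrime _ _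
  let ψ := algebraMap R p.ResidueField
  let t := Spec.map (CommRingCat.ofHom ψ) ≫ hV.fromSpec
  have hlfp : LocallyOfFinitePresentation (pullback.snd f t) :=
    (inferInstance : MorphismProperty.IsStableUnderBaseChange
      (@LocallyOfFinitePresentation : MorphismProperty Scheme.{u})).of_isPullback
      (IsPullback.of_hasPullback f t) ‹_›
  obtain ⟨i, hi, hif, hig, hir⟩ := exists_chart (IsPullback.of_hasPullback f t) (R := R) (S := S)
    (R' := p.ResidueField) hV.fromSpec hU.fromSpec (𝟙 _) (hV.SpecMap_appLE_fromSpec f hU e).symm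
    (Category.id_comp _)
  obtain ⟨Q, hQ⟩ : ∃ Q : Spec (CommRingCat.of (p.ResidueField ⊗[R] S)), PrimeSpectrum.comap
      (Algebra.TensorProduct.includeRight : S →ₐ[R] p.ResidueField ⊗[R] S).toRingHom Q = q := by
    let pp : PrimeSpectrum R := ⟨p, inferInstance⟩
    exact ⟨(PrimeSpectrum.preimageEquivFiber R S pp ⟨q, rfl⟩),
      congrArg Subtype.val ((PrimeSpectrum.preimageEquivFiber R S pp).symm_apply_apply ⟨q, rfl⟩)⟩
  have hx : pullback.fst f t (i Q) = x := by
    rw [← Scheme.Hom.comp_apply, hig, Scheme.Hom.comp_apply, ← hq]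
    exact congrArg hU.fromSpec hQ
  have h1 := hfib p.ResidueField t (i Q) hx
  have : LocallyOfFinitePresentation
      (Spec.map (CommRingCat.ofHom (algebraMap p.ResidueField (p.ResidueField ⊗[R] S)))) :=
    (HasRingHomProperty.Spec_iff (P := @LocallyOfFinitePresentation)).mpr
      (RingHom.finitePresentation_algebraMap.mpr inferInstance)
  have : LocallyOfFinitePresentation (Spec.map (CommRingCat.ofHom (algebraMap R S))) :=
    (HasRingHomProperty.Spec_iff (P := @LocallyOfFinitePresentation)).mpr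
      (RingHom.finitePresentation_algebraMap.mpr inferInstance)
  rw [mem_smoothLocus_of_square i (𝟙 _) hif, mem_smoothLocus_spec_iff] at h1
  have : Algebra.IsSmoothAt p.ResidueField Q.asIdeal := h1
  rw [← hq, mem_smoothLocus_of_square hU.fromSpec hV.fromSpec (hV.SpecMap_appLE_fromSpec f hU e).symm]
  refine (mem_smoothLocus_spec_iff q).mpr ?_
  rw [← hQ]
  exact isSmoothAt_of_fibre p Q.asIdeal

end Groth.Agent.Open62
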