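import Groth.Agent.Open62.FiniteTest
import Groth.Agent.Dim62.Local
import Groth.Agent.E4O.ChevalleyOpen
import Groth.Agent.E4O.UnivOpenMap
import Groth.Agent.CAlg6.RegularNormal
import Groth.Agent.CAlg1.Regular

/-!
Universal openness over a one dimensional normal base.
-/

universe u

open CategoryTheory AlgebraicGeometry Topology TopologicalSpace

namespace Groth.Agent.Open62.FiniteTest

open Groth.Agent.E4O Groth.Agent.Dim62

variable {X Y : Scheme.{u}}

theorem fdeg_le_of_stalk_dim_le_one [IsLocallyNoetherian Y] (f : X ⟶ Y) [LocallyOfFiniteType f]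
    {ξ z : X} (hξ : ξ ⤳ z) (hdim : ringKrullDim (Y.presheaf.stalk (f z)) ≤ 1) :
    fdeg f z ≤ fdeg f ξ := by
  by_cases hne : ξ = z
  · rw [hne]
  obtain ⟨C, ⟨q, rfl⟩, hC⟩ := exists_chart f z
  have := hC ‹_›
  obtain ⟨m, rfl⟩ := hξ.mem_open C.isOpenEmbedding_pt.isOpen_range ⟨q, rfl⟩
  have hmq : m ≤ q := (C.specializes_iff _ _).1 hξ
  obtain ⟨a', b', -, hb', ha1, -, h, -, -⟩ := exists_component_data C hmq
  obtain ⟨a, b, k, ha, -, hA, -, -, -, -⟩ := exists_data C q
  rw [hA] at hdim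
  rw [ha] at ha1
  have hb : b' ≠ 0 := by
    intro h0
    rw [h0, relHeight_eq hmq, Nat.cast_zero, Order.height_eq_zero] at hb'
    exact hne (congrArg C.pt (le_antisymm hmq (hb' (b := (⟨m, le_refl m⟩ : Set.Ici m)) hmq)))
  norm_cast at ha1 hdim
  omega

/-- The points with only dominant components through them contain a neighbourhood of such a
point. -/
theorem mem_interior_setOf_dense [IsLocallyNoetherian Y] (f : X ⟶ Y) [LocallyOfFiniteType f] {x : X}
    (hx : ∀ ξ : X, ξ ⤳ x → (∀ w, w ⤳ ξ → w = ξ) → Dense (f '' closure {ξ})) :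
    x ∈ interior {w : X | ∀ ξ : X, ξ ⤳ w → (∀ v, v ⤳ ξ → v = ξ) → Dense (f '' closure {ξ})} := by
  obtain ⟨C, ⟨q, rfl⟩, hC⟩ := exists_chart f x
  have := hC ‹_›
  have : IsNoetherianRing C.B := Algebra.FiniteType.isNoetherianRing C.A _
  let bad : Set (PrimeSpectrum C.B) := {m | IsMin m ∧ ¬ Dense (f '' closure {C.pt m})}
  have hbad : bad.Finite :=
    ((minimalPrimes.finite_of_isNoetherianRing C.B).preimage
      (fun a _ b _ h => PrimeSpectrum.ext h)).subset fun m hm => PrimeSpectrum.isMin_iff.1 hm.1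
  refine mem_interior.2 ⟨Set.range C.pt ∩ (⋃ m ∈ bad, closure {C.pt m})ᶜ, fun w hw ξ hξ hmax => ?_,
    C.isOpenEmbedding_pt.isOpen_range.inter
      (hbad.isClosed_biUnion fun _ _ => isClosed_closure).isOpen_compl, ⟨q, rfl⟩, fun hmem => ?_⟩
  · obtain ⟨m, rfl⟩ := hξ.mem_open C.isOpenEmbedding_pt.isOpen_range hw.1
    by_contra hc
    exact hw.2 (Set.mem_iUnion₂.2 ⟨m, ⟨(C.isMin_iff m).2 hmax, hc⟩, specializes_iff_mem_closure.1 hξ⟩)
  · obtain ⟨m, hm, hxm⟩ := Set.mem_iUnion₂.1 hmem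
    exact hm.2 (hx _ (specializes_iff_mem_closure.2 hxm) ((C.isMin_iff m).1 hm.1))

theorem universallyOpen_of_dense_components [IsLocallyNoetherian Y] [IrreducibleSpace Y]
    (hY : ∀ y : Y, IsRegularLocalRing (Y.presheaf.stalk y) ∧ ringKrullDim (Y.presheaf.stalk y) ≤ 1)
    (f : X ⟶ Y) [LocallyOfFiniteType f]
    (h : ∀ ξ : X, (∀ v, v ⤳ ξ → v = ξ) → Dense (f '' closure {ξ})) : UniversallyOpen f := by
  refine universallyOpen_of_forall_isUnivOpenAt f fun x => ?_
  obtain ⟨z, hz, hfz, hzmax, -, -⟩ := exists_isFibreMax_specializes f x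
  refine isUnivOpenAt_of_specializes_fibre hz hfz ?_
  obtain ⟨Z, hZ, hzZ⟩ := exists_mem_irreducibleComponents_subset_of_isIrreducible {z}
    isIrreducible_singleton
  obtain ⟨ξ, rfl, hξ⟩ := exists_eq_closure_of_mem_irreducibleComponents hZ
  have hξz : ξ ⤳ z := specializes_iff_mem_closure.2 (hzZ rfl)
  have := (hY (f z)).1
  have : IsDomain (Y.presheaf.stalk (f z)) := CAlg1.isDomain_regular _
  have : IsIntegrallyClosed (Y.presheaf.stalk (f z)) := CAlg6.isIntegrallyClosed_of_regular _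
  refine isUnivOpenAt_of_geomUnibranch f hzmax hξz (fun y' _ => ?_)
    (fdeg_le_of_stalk_dim_le_one f hξz (hY _).2) (isGeomUnibranch_of_isIntegrallyClosed _)
  have hd := h ξ hξ
  rw [dense_iff_closure_eq, closure_image_closure_singleton] at hd
  exact specializes_iff_mem_closure.2 (hd.ge (Set.mem_univ y'))

end Groth.Agent.Open62.FiniteTest
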