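import Groth.Agent.Stage62.Flat
import Groth.Agent.Helper62.FlatNil
import Groth.Agent.GenFree62.Generic
import Mathlib.RingTheory.Nilpotent.Lemmas
import Mathlib.RingTheory.Localization.Away.Basic
import Mathlib.RingTheory.Ideal.MinimalPrime.Basic

/-! Generic freeness at a unique minimal prime of a possibly non-Noetherian ring. -/

set_option autoImplicit false
universe u

open TensorProduct

namespace Groth.Agent.Open62

/-- Elements outside a prime, preordered by divisibility. -/
structure NotMem {A : Type u} [CommRing A] (p : Ideal A) : Type u where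
  t : A
  ht : t ∉ p

namespace NotMem

variable {A : Type u} [CommRing A] (p : Ideal A) [p.IsPrime]

instance : Preorder (NotMem p) := Preorder.lift (fun i : NotMem p => Associates.mk i.t)

theorem dvd_of_le {i j : NotMem p} (h : i ≤ j) : i.t ∣ j.t := Associates.mk_le_mk_iff_dvd.mp h

theorem isUnit_of_le {i j : NotMem p} (h : i ≤ j) : IsUnit (algebraMap A (Localization.Away j.t) i.t) :=
  isUnit_of_dvd_unit (map_dvd _ (dvd_of_le p h)) (IsLocalization.Away.algebraMap_isUnit j.t)

noncomputable def trans (i j : NotMem p) (h : i ≤ j) : Localization.Away i.t →ₐ[A] Localization.Away j.t :=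
  IsLocalization.liftAlgHom (M := Submonoid.powers i.t) (f := Algebra.ofId A (Localization.Away j.t))
    fun y => by
      obtain ⟨n, hn⟩ := y.2
      show IsUnit (algebraMap A (Localization.Away j.t) y.1)
      rw [← hn, map_pow]
      exact (isUnit_of_le p h).pow n

noncomputable instance toLoc (i : NotMem p) : Algebra (Localization.Away i.t) (Localization.AtPrime p) :=
  (IsLocalization.Away.lift i.t (IsLocalization.map_units (Localization.AtPrime p) (⟨i.t, i.ht⟩ : p.primeCompl))).toAlgebra

instance tower (i : NotMem p) : IsScalarTower A (Localization.Away i.t) (Localization.AtPrime p) :=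
  .of_algebraMap_eq fun a => (IsLocalization.Away.lift_eq (S := Localization.Away i.t) i.t
    (IsLocalization.map_units (Localization.AtPrime p) (⟨i.t, i.ht⟩ : p.primeCompl)) a).symm

theorem isColimit : FlatCA.IsDirectedColimitRing (fun i : NotMem p => Localization.Away i.t)
    (fun i j h => (trans p i j h).toRingHom) (Localization.AtPrime p) := by
  have hext : ∀ (i : NotMem p) {T : Type u} [CommRing T] (a b : Localization.Away i.t →+* T),
      (∀ x, a (algebraMap A _ x) = b (algebraMap A _ x)) → a = b :=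
    fun i T _ a b h => IsLocalization.ringHom_ext (Submonoid.powers i.t) (RingHom.ext h)
  refine ⟨⟨fun i j => ⟨⟨i.t * j.t, fun h => (Ideal.IsPrime.mem_or_mem ‹_› h).elim i.ht j.ht⟩,
      Associates.mk_le_mk_iff_dvd.mpr (dvd_mul_right _ _), Associates.mk_le_mk_iff_dvd.mpr (dvd_mul_left _ _)⟩⟩,
    ⟨⟨1, fun h => Ideal.IsPrime.ne_top' ((Ideal.eq_top_iff_one p).mpr h)⟩⟩, fun i => ?_, fun i j k hij hjk => ?_,
    fun i j h => ?_, fun a => ?_, fun i x hx => ?_⟩
  · exact hext i _ _ fun x => by simp [AlgHom.commutes]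
  · exact hext i _ _ fun x => by simp [AlgHom.commutes]
  · exact hext i _ _ fun x => by simp [AlgHom.commutes, ← IsScalarTower.algebraMap_apply]
  · obtain ⟨x, s, rfl⟩ := IsLocalization.exists_mk'_eq p.primeCompl a
    have key : ∀ (i : NotMem p), algebraMap (Localization.Away i.t) (Localization.AtPrime p)
        (IsLocalization.mk' (Localization.Away i.t) x (⟨i.t, Submonoid.mem_powers _⟩ : Submonoid.powers i.t)) =
        IsLocalization.mk' (Localization.AtPrime p) x (⟨i.t, i.ht⟩ : p.primeCompl) := fun i => by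
      rw [IsLocalization.eq_mk'_iff_mul_eq]
      show _ * algebraMap A _ i.t = _
      rw [IsScalarTower.algebraMap_apply A (Localization.Away i.t) (Localization.AtPrime p) i.t,
        ← map_mul, IsLocalization.mk'_spec, ← IsScalarTower.algebraMap_apply]
    exact ⟨⟨s.1, s.2⟩, _, key ⟨s.1, s.2⟩⟩
  · obtain ⟨a, s, rfl⟩ := IsLocalization.exists_mk'_eq (Submonoid.powers i.t) x
    have ha : algebraMap A (Localization.AtPrime p) a = 0 := by
      have := congrArg (fun z => z * algebraMap (Localization.Away i.t) (Localization.AtPrime p)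
        (algebraMap A (Localization.Away i.t) s.1)) hx
      rw [zero_mul, ← map_mul, IsLocalization.mk'_spec, ← IsScalarTower.algebraMap_apply] at this
      exact this
    obtain ⟨c, hc⟩ := (IsLocalization.map_eq_zero_iff p.primeCompl (Localization.AtPrime p) a).mp ha
    let j : NotMem p := ⟨i.t * c.1, fun h => (Ideal.IsPrime.mem_or_mem ‹_› h).elim i.ht c.2⟩
    have hij : i ≤ j := Associates.mk_le_mk_iff_dvd.mpr (dvd_mul_right _ _)
    refine ⟨j, hij, ?_⟩
    have hs : IsUnit (algebraMap A (Localization.Away j.t) s.1) := by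
      obtain ⟨n, hn⟩ := s.2
      rw [← hn, map_pow]
      exact (isUnit_of_le p hij).pow n
    have hu : IsUnit (algebraMap A (Localization.Away j.t) c.1) :=
      isUnit_of_dvd_unit (map_dvd _ (dvd_mul_left c.1 i.t)) (IsLocalization.Away.algebraMap_isUnit j.t)
    have h0 : algebraMap A (Localization.Away j.t) a = 0 := by
      apply hu.mul_right_eq_zero.mp
      rw [← map_mul, hc, map_zero]
    apply hs.mul_left_eq_zero.mp
    show (trans p i j hij) _ * _ = 0
    rw [← AlgHom.commutes (trans p i j hij) s.1, ← map_mul, IsLocalization.mk'_spec, AlgHom.commutes, h0]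

end NotMem

/-- Free away mod an ideal gives free after base change to a quotient of a ring inverting `h`. -/
theorem free_tensor_quot {R C : Type u} [CommRing R] [CommRing C] [Algebra R C] (q : Ideal C)
    (M' : Type u) [AddCommGroup M'] [Module R M'] (h : C)
    (hfree : GenFree62.FreeAway (Ideal.Quotient.mk q h) ((C ⧸ q) ⊗[R] M'))
    (D : Type u) [CommRing D] [Algebra C D] [Algebra R D] [IsScalarTower R C D]
    (hu : IsUnit (algebraMap C D h)) :
    Module.Free (D ⧸ q.map (algebraMap C D)) ((D ⧸ q.map (algebraMap C D)) ⊗[D] (D ⊗[R] M')) := by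
  generalize hJ : q.map (algebraMap C D) = J
  letI : Algebra (C ⧸ q) (D ⧸ J) :=
    (Ideal.quotientMap J (algebraMap C D) (hJ ▸ Ideal.le_comap_map)).toAlgebra
  have hC : ∀ c : C, algebraMap (C ⧸ q) (D ⧸ J) (Ideal.Quotient.mk q c) =
      Ideal.Quotient.mk J (algebraMap C D c) := fun c => Ideal.quotientMap_mk
  have : IsScalarTower R (C ⧸ q) (D ⧸ J) := .of_algebraMap_eq fun r => by
    rw [show algebraMap R (C ⧸ q) r = Ideal.Quotient.mk q (algebraMap R C r) from rfl, hC,
      ← IsScalarTower.algebraMap_apply]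
    rfl
  have h1 := hfree (D ⧸ J) (by rw [hC]; exact hu.map _)
  exact Module.Free.of_equiv ((AlgebraTensorModule.cancelBaseChange R (C ⧸ q) (D ⧸ J) (D ⧸ J) M') ≪≫ₗ
    (AlgebraTensorModule.cancelBaseChange R D (D ⧸ J) (D ⧸ J) M').symm)

set_option maxHeartbeats 1000000 in
/-- Generic freeness at the unique minimal prime. -/
theorem exists_free_away_of_flat_atPrime {A B : Type u} [CommRing A] [CommRing B] [Algebra A B]
    [Algebra.FinitePresentation A B] (p : Ideal A) [p.IsPrime] (hp : minimalPrimes A = {p})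
    (M : Type u) [AddCommGroup M] [Module B M] [Module A M] [IsScalarTower A B M] [Module.FinitePresentation B M]
    (hflat : Module.Flat (Localization.AtPrime p) (LocalizedModule p.primeCompl M)) :
    ∃ t : A, t ∉ p ∧ Module.Free (Localization.Away t) (LocalizedModule (Submonoid.powers t) M) := by
  obtain ⟨R, B', _, _, M', _, _, _, _, e, hN, hfp, hfin⟩ :=
    Stage62.exists_module_model (A := A) (B := B) (M := M)
  have : Algebra.FiniteType R B' := inferInstance
  let Ap := Localization.AtPrime p
  have : Module.Flat Ap (Ap ⊗[R] M') := Module.Flat.of_linearEquiv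
    ((AlgebraTensorModule.cancelBaseChange R A Ap Ap M').symm ≪≫ₗ
      AlgebraTensorModule.congr (LinearEquiv.refl Ap Ap) e ≪≫ₗ
      (LocalizedModule.equivTensorProduct p.primeCompl M).symm)
  obtain ⟨C, hC, hflatC⟩ := FlatStage64.exists_fg_flat (R := R) (B := B') (M := M') (A := Ap) this
  have : Algebra.FiniteType R C := (Subalgebra.fg_iff_finiteType C).mp hC
  have : Algebra.FinitePresentation R C := Algebra.FinitePresentation.of_finiteType.mp inferInstance
  have : IsNoetherianRing C := Algebra.FiniteType.isNoetherianRing R C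
  obtain ⟨i, ψ, hψ⟩ := Stage62.exists_algHom_stage (fun i : NotMem p => Localization.Away i.t)
    (fun i j h => (NotMem.trans p i j h).restrictScalars R) Ap (NotMem.isColimit p) C.val
  have hprime : ∀ P : Ideal A, P.IsPrime → p ≤ P := by
    intro P hP
    obtain ⟨Q, hQ, hQP⟩ := Ideal.exists_minimalPrimes_le (I := (⊥ : Ideal A)) (J := P) bot_le
    have : Q ∈ ({p} : Set (Ideal A)) := hp ▸ (show Q ∈ minimalPrimes A from hQ)
    exact (Set.mem_singleton_iff.mp this) ▸ hQP
  have hnil : ∀ x ∈ IsLocalRing.maximalIdeal Ap, IsNilpotent x := by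
    intro x hx
    obtain ⟨a, s, rfl⟩ := IsLocalization.exists_mk'_eq p.primeCompl x
    have ha : a ∈ p := by
      by_contra hap
      exact hx ((IsLocalization.AtPrime.isUnit_mk'_iff Ap p a s).mpr hap)
    have : IsNilpotent a := by
      rw [← mem_nilradical, nilradical_eq_sInf]
      exact Submodule.mem_sInf.mpr fun P hP => hprime P hP ha
    obtain ⟨n, hn⟩ := this
    exact ⟨n, by rw [← IsLocalization.mk'_pow, hn, IsLocalization.mk'_zero]⟩
  let q : Ideal C := (IsLocalRing.maximalIdeal Ap).comap C.val.toRingHom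
  have hq : q.IsPrime := Ideal.IsPrime.comap _
  have hqnil : q ≤ nilradical C := fun c hc => by
    obtain ⟨n, hn⟩ := hnil _ hc
    exact ⟨n, Subtype.ext (by simpa using hn)⟩
  have hqnilp : IsNilpotent q := by
    obtain ⟨n, hn⟩ := IsNoetherianRing.isNilpotent_nilradical C
    exact ⟨n, le_bot_iff.mp (le_of_le_of_eq (Ideal.pow_right_mono hqnil n) hn)⟩
  have key : ∀ (D : Type u) [CommRing D] [IsDomain D] [IsNoetherianRing D] [Algebra R D],
      ∃ h : D, h ≠ 0 ∧ GenFree62.FreeAway h (D ⊗[R] M') := by
    intro D _ _ _ _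
    letI := FlatStage64.tensorModule R D B' M'
    have := FlatStage64.isScalarTower_tensorModule R D B' M'
    have := FlatStage64.finite_tensorModule R D B' M'
    exact GenFree62.exists_freeAway (A := D) (B := D ⊗[R] B') (M := D ⊗[R] M')
  have : IsDomain (C ⧸ q) := Ideal.Quotient.isDomain q
  let C' := C ⧸ q
  obtain ⟨h, h0, hfree⟩ := key (C ⧸ q)
  obtain ⟨h, rfl⟩ := Ideal.Quotient.mk_surjective h
  let Ch := Localization.Away h
  let qh := q.map (algebraMap C Ch)
  have : Module.Flat C (C ⊗[R] M') := hflatC C le_rfl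
  have : Module.Flat Ch (Ch ⊗[R] M') :=
    Module.Flat.of_linearEquiv (AlgebraTensorModule.cancelBaseChange R C Ch Ch M').symm
  have hfreeq := free_tensor_quot q M' h hfree Ch (IsLocalization.Away.algebraMap_isUnit h)
  have : Module.Free Ch (Ch ⊗[R] M') := FlatNil62.free_of_flat_family
    (J := qh) (by obtain ⟨n, hn⟩ := hqnilp; exact ⟨n, by rw [← Ideal.map_pow, hn, Submodule.zero_eq_bot, Ideal.map_bot]; rfl⟩)
    (fun _ : PUnit.{1} => Ch) (fun a ha => by simpa using ha ⟨⟩) (Ch ⊗[R] M')
    (fun _ => inferInstance) hfreeq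
  obtain ⟨a, s, hs⟩ := IsLocalization.exists_mk'_eq (Submonoid.powers i.t) (ψ h)
  have hψh : algebraMap (Localization.Away i.t) Ap (ψ h) = (h : Ap) := AlgHom.congr_fun hψ h
  have ha : a ∉ p := by
    intro hap
    refine h0 (Ideal.Quotient.eq_zero_iff_mem.mpr ?_)
    show (h : Ap) ∈ IsLocalRing.maximalIdeal Ap
    have h1 : algebraMap (Localization.Away i.t) Ap (ψ h) * algebraMap A Ap s.1 = algebraMap A Ap a := by
      rw [IsScalarTower.algebraMap_apply A (Localization.Away i.t) Ap s.1, ← map_mul, ← hs,
        IsLocalization.mk'_spec, ← IsScalarTower.algebraMap_apply]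
    rw [hψh] at h1
    have h2 : (h : Ap) * algebraMap A Ap s.1 ∈ IsLocalRing.maximalIdeal Ap :=
      h1 ▸ ((IsLocalization.AtPrime.to_map_mem_maximal_iff Ap p a).mpr hap)
    refine ((IsLocalRing.maximalIdeal.isMaximal Ap).isPrime.mem_or_mem h2).resolve_right fun hs' => ?_
    obtain ⟨n, hn⟩ := s.2
    rw [IsLocalization.AtPrime.to_map_mem_maximal_iff Ap p, ← hn] at hs'
    exact i.ht (Ideal.IsPrime.mem_of_pow_mem ‹_› n hs')
  let j : NotMem p := ⟨i.t * a, fun hm => (Ideal.IsPrime.mem_or_mem ‹_› hm).elim i.ht ha⟩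
  have hij : i ≤ j := Associates.mk_le_mk_iff_dvd.mpr (dvd_mul_right _ _)
  let At := Localization.Away j.t
  let χ : C →ₐ[R] At := ((NotMem.trans p i j hij).restrictScalars R).comp ψ
  have hu : IsUnit (χ.toRingHom h) := by
    show IsUnit (NotMem.trans p i j hij (ψ h))
    rw [← hs]
    have hd : IsUnit (algebraMap A At a) :=
      isUnit_of_dvd_unit (map_dvd _ (dvd_mul_left a i.t)) (IsLocalization.Away.algebraMap_isUnit j.t)
    have h1 := congrArg (NotMem.trans p i j hij) (IsLocalization.mk'_spec (Localization.Away i.t) a s)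
    rw [map_mul, AlgHom.commutes, AlgHom.commutes] at h1
    exact isUnit_of_mul_isUnit_left (h1 ▸ hd)
  letI : Algebra Ch At := (IsLocalization.Away.lift h hu).toAlgebra
  have : IsScalarTower R Ch At := .of_algebraMap_eq fun r => by
    rw [IsScalarTower.algebraMap_apply R C Ch]
    exact ((IsLocalization.Away.lift_eq (S := Ch) h hu _).trans (χ.commutes r)).symm
  refine ⟨j.t, j.ht, ?_⟩
  exact Module.Free.of_equiv ((AlgebraTensorModule.cancelBaseChange R Ch At At M') ≪≫ₗ
    (AlgebraTensorModule.cancelBaseChange R A At At M').symm ≪≫ₗ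
    AlgebraTensorModule.congr (LinearEquiv.refl At At) e ≪≫ₗ
    (LocalizedModule.equivTensorProduct (Submonoid.powers j.t) M).symm)

end Groth.Agent.Open62
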