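import Groth.Agent.Open62.FlatLocus
import Groth.Agent.SchBasics.Closure
import Mathlib.AlgebraicGeometry.IdealSheaf.Subscheme

/-! Openness of the locus of flatness over all generizations. -/

set_option autoImplicit false
universe u

open CategoryTheory Limits AlgebraicGeometry TopologicalSpace TensorProduct

namespace Groth.Agent.Open62

/-- For a quasi-compact morphism the points none of whose generizations lie in the image of a
closed set form an open set. -/
theorem isOpen_setOf_forall_generization {X Y : Scheme.{u}} (f : X ⟶ Y) [QuasiCompact f]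
    {W : Set X} (hW : IsOpen W) : IsOpen {y : Y | ∀ y' : Y, y' ⤳ y → ∀ x : X, f x = y' → x ∈ W} := by
  let I := Scheme.IdealSheafData.vanishingIdeal ⟨Wᶜ, hW.isClosed_compl⟩
  have hI : Set.range I.subschemeι = Wᶜ := by
    rw [Scheme.IdealSheafData.range_subschemeι, Scheme.IdealSheafData.coe_support_vanishingIdeal]
    rfl
  suffices {y : Y | ∀ y' : Y, y' ⤳ y → ∀ x : X, f x = y' → x ∈ W} = (closure (Set.range (I.subschemeι ≫ f)))ᶜ by
    rw [this]; exact isClosed_closure.isOpen_compl
  ext y
  constructor
  · intro hy hcl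
    obtain ⟨z, hz⟩ := SchBasics.exists_specializes_of_mem_closure_range (I.subschemeι ≫ f) hcl
    rw [Scheme.Hom.comp_apply] at hz
    exact hI.le (Set.mem_range_self z) (hy _ hz (I.subschemeι z) rfl)
  · intro hy y' hy' x hx
    by_contra hxW
    obtain ⟨z, rfl⟩ := hI.ge hxW
    exact hy (hy'.mem_closed isClosed_closure
      (subset_closure ⟨z, by rw [Scheme.Hom.comp_apply, hx]⟩))

/-- Flatness of the localization at a prime of `B` is flatness at all primes of `C` over its generizations. -/
theorem flat_localized_base_iff {A B C : Type u} [CommRing A] [CommRing B] [CommRing C]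
    [Algebra A B] [Algebra B C] [Algebra A C] [IsScalarTower A B C]
    (M : Type u) [AddCommGroup M] [Module C M] [Module B M] [Module A M]
    [IsScalarTower B C M] [IsScalarTower A C M] [IsScalarTower A B M] (q : Ideal B) [q.IsPrime] :
    Module.Flat A (LocalizedModule q.primeCompl M) ↔
      ∀ Q : PrimeSpectrum C, Q.asIdeal.comap (algebraMap B C) ≤ q →
        Module.Flat A (LocalizedModule Q.asIdeal.primeCompl M) := by
  simp only [FlatCrit65.flat_localized_iff_kernels]
  constructor
  · intro h Q hQ I z hz
    obtain ⟨s, hs, hsz⟩ := h I z hz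
    exact ⟨algebraMap B C s, fun h' => hs (hQ h'), by rw [algebraMap_smul, hsz]⟩
  · intro h I z hz
    by_contra hcon
    push Not at hcon
    let J : Ideal C := LinearMap.ker (LinearMap.toSpanSingleton C (M ⊗[A] I) z)
    have hd : Disjoint (J : Set C) ((q.primeCompl.map (algebraMap B C)) : Set C) := by
      rw [Set.disjoint_left]
      rintro _ hc ⟨s, hs, rfl⟩
      exact hcon s hs (by rw [← algebraMap_smul C s z]; exact hc)
    obtain ⟨Q, hQ, hJQ, hQd⟩ := Ideal.exists_le_prime_disjoint J _ hd
    obtain ⟨c, hc, hcz⟩ := h ⟨Q, hQ⟩ (fun b hb => by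
      by_contra hbq
      exact Set.disjoint_left.mp hQd hb ⟨b, hbq, rfl⟩) I z hz
    exact hc (hJQ hcz)

theorem isOpen_setOf_flat_localized_base {A B C : Type u} [CommRing A] [CommRing B] [CommRing C]
    [Algebra A B] [Algebra B C] [Algebra A C] [IsScalarTower A B C]
    (M : Type u) [AddCommGroup M] [Module C M] [Module B M] [Module A M]
    [IsScalarTower B C M] [IsScalarTower A C M] [IsScalarTower A B M]
    [Algebra.FinitePresentation A C] [Module.FinitePresentation C M] :
    IsOpen {q : PrimeSpectrum B | Module.Flat A (LocalizedModule q.asIdeal.primeCompl M)} := by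
  obtain ⟨J, hJ⟩ := (PrimeSpectrum.isClosed_iff_zeroLocus_ideal _).mp
    (FlatCrit65.isOpen_flat_locus_module (R := A) (S := C) (M := M)).isClosed_compl
  rw [← isClosed_compl_iff]
  suffices {q : PrimeSpectrum B | Module.Flat A (LocalizedModule q.asIdeal.primeCompl M)}ᶜ =
      PrimeSpectrum.zeroLocus (J.comap (algebraMap B C) : Set B) by
    rw [this]; exact PrimeSpectrum.isClosed_zeroLocus _
  ext q
  rw [Set.mem_compl_iff, Set.mem_ofPred_eq, flat_localized_base_iff (A := A) (C := C)]
  push Not
  constructor
  · rintro ⟨Q, hQq, hQ⟩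
    have : Q ∈ PrimeSpectrum.zeroLocus (J : Set C) := hJ.le hQ
    exact fun b hb => hQq (this hb)
  · intro hq
    have hd : Disjoint (J : Set C) ((q.asIdeal.primeCompl.map (algebraMap B C)) : Set C) := by
      rw [Set.disjoint_left]
      rintro _ hc ⟨s, hs, rfl⟩
      exact hs (hq hc)
    obtain ⟨Q, hQ, hJQ, hQd⟩ := Ideal.exists_le_prime_disjoint J _ hd
    refine ⟨⟨Q, hQ⟩, fun b hb => by_contra fun hbq => Set.disjoint_left.mp hQd hb ⟨b, hbq, rfl⟩, ?_⟩
    exact hJ.ge (show (⟨Q, hQ⟩ : PrimeSpectrum C) ∈ PrimeSpectrum.zeroLocus (J : Set C) from hJQ)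

end Groth.Agent.Open62
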