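import Groth.Agent.Open62.GenFreeIrred

/-! Stratification of the base into pieces on which a flat finitely presented module is free. -/

set_option autoImplicit false
universe u

open TensorProduct

namespace Groth.Agent.Open62

section
variable {R B' M' C : Type u} [CommRing R] [CommRing B'] [Algebra R B'] [Algebra.FiniteType R B']
  [AddCommGroup M'] [Module B' M'] [Module R M'] [IsScalarTower R B' M'] [Module.Finite B' M']
  [CommRing C] [Algebra R C] [IsNoetherianRing C]

/- Generic freeness on a dense open piece of a closed subset. -/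
include B' in
theorem exists_free_stratum (hflat : Module.Flat C (C ⊗[R] M')) (I : Ideal C) (hI : I ≠ ⊤) :
    ∃ f : C, f ∉ I ∧ ∀ (D : Type u) [CommRing D] [Algebra C D] [Algebra R D] [IsScalarTower R C D],
      IsUnit (algebraMap C D f) → I.map (algebraMap C D) = ⊥ → Module.Free D (D ⊗[R] M') := by
  classical
  obtain ⟨p, hp⟩ := Ideal.nonempty_minimalPrimes hI
  have hpp : p.IsPrime := hp.1.1
  have hfin : I.minimalPrimes.Finite := I.finite_minimalPrimes_of_isNoetherianRing C
  let s := hfin.toFinset.erase p
  obtain ⟨g, hgp, hg⟩ : ∃ g, g ∉ p ∧ ∀ q ∈ s, g ∈ q := by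
    by_contra hc
    push Not at hc
    have : s.inf id ≤ p := fun g hg => by
      by_contra hgp
      obtain ⟨q, hq, hgq⟩ := hc g hgp
      exact hgq (Finset.inf_le (f := id) hq hg)
    obtain ⟨q, hq, hqp⟩ := (Ideal.IsPrime.inf_le' hpp).mp this
    obtain ⟨hne, hq'⟩ := Finset.mem_erase.mp hq
    have hq'' := hfin.mem_toFinset.mp hq'
    exact hne (le_antisymm hqp (hp.2 hq''.1 hqp))
  have key : ∀ (E : Type u) [CommRing E] [IsDomain E] [IsNoetherianRing E] [Algebra R E],
      ∃ h : E, h ≠ 0 ∧ GenFree62.FreeAway h (E ⊗[R] M') := by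
    intro E _ _ _ _
    letI := FlatStage64.tensorModule R E B' M'
    have := FlatStage64.isScalarTower_tensorModule R E B' M'
    have := FlatStage64.finite_tensorModule R E B' M'
    exact GenFree62.exists_freeAway (A := E) (B := E ⊗[R] B') (M := E ⊗[R] M')
  have : IsDomain (C ⧸ p) := Ideal.Quotient.isDomain p
  obtain ⟨h, h0, hfree⟩ := key (C ⧸ p)
  obtain ⟨h, rfl⟩ := Ideal.Quotient.mk_surjective h
  have hhp : h ∉ p := fun hh => h0 (Ideal.Quotient.eq_zero_iff_mem.mpr hh)
  have hmul : Ideal.span {g} * p ≤ I.radical := by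
    rw [← Ideal.sInf_minimalPrimes]
    refine le_sInf fun q hq => ?_
    by_cases hqp : q = p
    · exact hqp ▸ Ideal.mul_le_right
    · exact Ideal.mul_le_left.trans ((Ideal.span_singleton_le_iff_mem q).mpr
        (hg q (Finset.mem_erase.mpr ⟨hqp, hfin.mem_toFinset.mpr hq⟩)))
  obtain ⟨n, hn⟩ := Ideal.exists_radical_pow_le_of_fg I (IsNoetherian.noetherian _)
  refine ⟨g * h, fun hgh => (hpp.mem_or_mem (hp.1.2 hgh)).elim hgp hhp, ?_⟩
  intro D _ _ _ _ hu hID
  have hug : IsUnit (algebraMap C D g) := isUnit_of_mul_isUnit_left (by rwa [← map_mul])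
  have huh : IsUnit (algebraMap C D h) := isUnit_of_mul_isUnit_right (by rwa [← map_mul])
  have hnil : IsNilpotent (p.map (algebraMap C D)) := by
    refine ⟨n, le_bot_iff.mp ?_⟩
    have h1 : ((Ideal.span {g}).map (algebraMap C D) * p.map (algebraMap C D)) ^ n ≤ ⊥ := by
      rw [← Ideal.map_mul, ← Ideal.map_pow, ← hID]
      exact Ideal.map_mono ((Ideal.pow_right_mono hmul n).trans hn)
    rwa [Ideal.map_span, Set.image_singleton, Ideal.span_singleton_eq_top.mpr hug,
      Ideal.top_mul] at h1
  have : Module.Flat D (D ⊗[R] M') :=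
    Module.Flat.of_linearEquiv (AlgebraTensorModule.cancelBaseChange R C D D M').symm
  exact FlatNil62.free_of_flat_family hnil
    (fun _ : PUnit.{1} => D) (fun a ha => by simpa using ha ⟨⟩) (D ⊗[R] M')
    (fun _ => inferInstance) (free_tensor_quot p M' h hfree D huh)

/- Every closed subset is exhausted by finitely many freeness strata. -/
include B' in
theorem exists_strata (hflat : Module.Flat C (C ⊗[R] M')) (I : Ideal C) :
    ∃ l : List C, I ⊔ Ideal.span {a | a ∈ l} = ⊤ ∧ ∀ (i : ℕ) (hi : i < l.length)
      (D : Type u) [CommRing D] [Algebra C D] [Algebra R D] [IsScalarTower R C D],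
      IsUnit (algebraMap C D l[i]) → (I ⊔ Ideal.span {a | a ∈ l.take i}).map (algebraMap C D) = ⊥ →
      Module.Free D (D ⊗[R] M') := by
  induction I using WellFoundedGT.induction with
  | _ I ih =>
    by_cases hI : I = ⊤
    · exact ⟨[], by simp [hI], fun i hi => absurd hi (by simp)⟩
    obtain ⟨f, hf, hfree⟩ := exists_free_stratum (B' := B') hflat I hI
    obtain ⟨l, hl, hfr⟩ := ih (I ⊔ Ideal.span {f})
      (lt_of_le_of_ne le_sup_left fun h => hf (h ▸ Ideal.mem_sup_right (Ideal.mem_span_singleton_self f)))
    have hcons : ∀ l : List C, I ⊔ Ideal.span {a | a ∈ f :: l} = I ⊔ Ideal.span {f} ⊔ Ideal.span {a | a ∈ l} := by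
      intro l
      rw [sup_assoc, ← Ideal.span_union]
      congr 2
      ext a
      simp
    refine ⟨f :: l, (hcons l).trans hl, ?_⟩
    intro i hi D _ _ _ _ hu hmap
    cases i with
    | zero =>
      exact hfree D hu (le_bot_iff.mp (le_of_le_of_eq (Ideal.map_mono le_sup_left) hmap))
    | succ i =>
      refine hfr i (by simpa using hi) D (by simpa using hu) ?_
      rwa [List.take_succ_cons, hcons] at hmap

end

/-- A flat finitely presented module is free on finitely many strata of the base. -/
theorem exists_free_strata {A B : Type u} [CommRing A] [CommRing B] [Algebra A B]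
    [Algebra.FinitePresentation A B] (M : Type u) [AddCommGroup M] [Module B M] [Module A M]
    [IsScalarTower A B M] [Module.FinitePresentation B M] [Module.Flat A M] :
    ∃ l : List A, Ideal.span {a | a ∈ l} = ⊤ ∧
      ∀ (i : ℕ) (hi : i < l.length),
        letI J : Ideal (Localization.Away l[i]) :=
          (Ideal.span {a | a ∈ l.take i}).map (algebraMap A (Localization.Away l[i]))
        Module.Free (Localization.Away l[i] ⧸ J) ((Localization.Away l[i] ⧸ J) ⊗[A] M) := by
  obtain ⟨R, B', _, _, M', _, _, _, _, e, hN, hfp, hfin⟩ :=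
    Stage62.exists_module_model (A := A) (B := B) (M := M)
  have : Algebra.FiniteType R B' := inferInstance
  have : Module.Flat A (A ⊗[R] M') := Module.Flat.of_linearEquiv e
  obtain ⟨C, hC, hflatC⟩ := FlatStage64.exists_fg_flat (R := R) (B := B') (M := M') (A := A) this
  have : Algebra.FiniteType R C := (Subalgebra.fg_iff_finiteType C).mp hC
  have : IsNoetherianRing C := Algebra.FiniteType.isNoetherianRing R C
  obtain ⟨l, hl, hfr⟩ := exists_strata (B' := B') (hflatC C le_rfl) (⊥ : Ideal C)
  rw [bot_sup_eq] at hl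
  have hspan : ∀ l : List C, (Ideal.span {a | a ∈ l}).map C.val.toRingHom =
      Ideal.span {a | a ∈ l.map C.val} := by
    intro l
    rw [Ideal.map_span]
    congr 1
    ext a
    simp
  refine ⟨l.map C.val, by rw [← hspan, hl, Ideal.map_top], ?_⟩
  intro i hi
  have hi' : i < l.length := by simpa using hi
  generalize hf : (l.map C.val)[i] = f
  let J : Ideal (Localization.Away f) :=
    (Ideal.span {a | a ∈ (l.map C.val).take i}).map (algebraMap A (Localization.Away f))
  have hfree := hfr i hi' (Localization.Away f ⧸ J) (by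
      show IsUnit (algebraMap A (Localization.Away f ⧸ J) (C.val l[i]))
      rw [show C.val l[i] = f by rw [← hf, List.getElem_map]]
      exact (IsLocalization.Away.algebraMap_isUnit f).map (Ideal.Quotient.mk J)) (by
      rw [bot_sup_eq]
      refine le_bot_iff.mp (Ideal.map_le_iff_le_comap.mpr (Ideal.span_le.mpr fun a ha => ?_))
      show algebraMap A (Localization.Away f ⧸ J) (C.val a) ∈ (⊥ : Ideal _)
      rw [Submodule.mem_bot]
      exact Ideal.Quotient.eq_zero_iff_mem.mpr (Ideal.mem_map_of_mem _ (Ideal.subset_span (by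
        show C.val a ∈ (l.map C.val).take i
        rw [← List.map_take]
        exact List.mem_map_of_mem ha))))
  exact Module.Free.of_equiv ((AlgebraTensorModule.cancelBaseChange R A (Localization.Away f ⧸ J)
    (Localization.Away f ⧸ J) M').symm ≪≫ₗ AlgebraTensorModule.congr (LinearEquiv.refl _ _) e)

end Groth.Agent.Open62
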